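import Cfsg.Agent.Lib.Chev.StTheta
import Cfsg.Agent.Lib.Known.ChevSinger.Bruhat

/-!
# The torus of a universal group and monomial elements

Scalar extension of Steinberg's presented groups, and the exact action of monomial elements on the torus
parametrised by the weight lattice.
-/

set_option autoImplicit false
set_option linter.unusedSectionVars false

namespace CfsgLib.Known.ChevSinger

open Cfsg.Lie CfsgLib.Chev Matrix

universe u v w

variable {D : ChevalleyDatum} {co : ℕ → ℕ → ℤ}

/-! ### Scalar extension -/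

section Map

variable {K : Type v} [Field K] {L : Type w} [Field L]

/-- The scalar extension on generators. -/
noncomputable def stMapFree (D : ChevalleyDatum) (ι : K →+* L) :
    FreeGroup (Fin D.nroots × K) →* D.SteinbergGroup L :=
  FreeGroup.lift fun p => D.stGen L p.1.val (ι p.2)

theorem stMapFree_stX (ι : K →+* L) (r : ℕ) (t : K) :
    stMapFree D ι (D.stX r t) = D.stGen L r (ι t) := by
  by_cases h : r < D.nroots <;>
    simp [stMapFree, ChevalleyDatum.stX, ChevalleyDatum.stGen, h]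

theorem stMapFree_stWord (ι : K →+* L) (w : List (ℕ × K)) :
    stMapFree D ι (D.stWord w) = stW D (w.map fun p => (p.1, ι p.2)) := by
  rw [ChevalleyDatum.stWord, map_list_prod, List.map_map, stW, List.map_map]
  exact congrArg List.prod (List.map_congr_left fun p _ => stMapFree_stX ι p.1 p.2)

theorem stMapFree_stH (ι : K →+* L) (r : ℕ) (t : K) :
    stMapFree D ι (D.stH r t) = stHG D r (ι t) := by
  rw [ChevalleyDatum.stH, stMapFree_stWord, stHG, stNG, stNG]
  simp [ChevalleyDatum.hWord, ChevalleyDatum.nWord, stW, map_neg, map_one, map_inv₀, mul_assoc]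

/-- Scalar extension of the presented group. -/
noncomputable def stMap (D : ChevalleyDatum) (ι : K →+* L) :
    D.SteinbergGroup K →* D.SteinbergGroup L :=
  PresentedGroup.toGroup (rels := D.steinbergRels K)
    (f := fun p => D.stGen L p.1.val (ι p.2)) (by
    rintro g ((⟨r, t, u, hr, rfl⟩ | ⟨r, s, t, u, hr, hs, h1, h2, rfl⟩) | ⟨r, t, u, hr, ht, hu, rfl⟩)
    · show stMapFree D ι _ = 1
      rw [map_mul, map_mul, map_inv, stMapFree_stX, stMapFree_stX, stMapFree_stX, map_add,
        stGen_add hr, mul_inv_cancel]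
    · show stMapFree D ι _ = 1
      simp only [map_mul, map_inv, stMapFree_stX, stMapFree_stWord]
      have h := PresentedGroup.one_of_mem (rels := D.steinbergRels L)
        (Or.inl (Or.inr ⟨r, s, ι t, ι u, hr, hs, h1, h2, rfl⟩))
      simp only [map_mul, map_inv, mk_stWord] at h
      refine Eq.trans ?_ h
      congr 3
      simp [ChevalleyDatum.commWord, List.map_map, map_mul, map_pow, map_neg, Function.comp_def]
    · show stMapFree D ι _ = 1
      rw [map_mul, map_mul, map_inv, stMapFree_stH, stMapFree_stH, stMapFree_stH, map_mul,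
        stHG_mul (fun _ h => h) hr ((map_ne_zero ι).2 ht) ((map_ne_zero ι).2 hu), mul_inv_cancel])

theorem stMap_gen (ι : K →+* L) (r : ℕ) (t : K) :
    stMap D ι (D.stGen K r t) = D.stGen L r (ι t) := by
  show stMapFree D ι (D.stX r t) = _
  exact stMapFree_stX ι r t

theorem stMap_stHG (ι : K →+* L) (r : ℕ) (c : K) :
    stMap D ι (stHG D r c) = stHG D r (ι c) := by
  rw [← mk_stH]
  show stMapFree D ι (D.stH r c) = _
  exact stMapFree_stH ι r c

theorem stMap_stT (ι : K →+* L) (c : Fin D.rank → Kˣ) :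
    stMap D ι (stT D c) = stT D (fun i => Units.map ι.toMonoidHom (c i)) := by
  rw [stT, map_list_prod, List.map_map, stT]
  exact congrArg List.prod (List.map_congr_left fun i _ => stMap_stHG ι _ _)

theorem stMap_comp {M : Type*} [Field M] (ι : K →+* L) (κ : L →+* M) (x : D.SteinbergGroup K) :
    stMap D κ (stMap D ι x) = stMap D (κ.comp ι) x := by
  refine DFunLike.congr_fun (?_ : (stMap D κ).comp (stMap D ι) = stMap D (κ.comp ι)) x
  refine PresentedGroup.ext fun ⟨r, t⟩ => ?_
  have e : (PresentedGroup.of (r, t) : D.SteinbergGroup K) = D.stGen K r.val t := by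
    simp [ChevalleyDatum.stGen, ChevalleyDatum.stX, PresentedGroup.of]
  rw [e, MonoidHom.comp_apply, stMap_gen, stMap_gen, stMap_gen]
  rfl

theorem map_stMap (hF : Facts D co) (ι : K →+* L) {φ : D.SteinbergGroup K →* GL D.Idx K}
    (hφ : IsTheta D φ) {ψ : D.SteinbergGroup L →* GL D.Idx L} (hψ : IsTheta D ψ)
    (x : D.SteinbergGroup K) : ψ (stMap D ι x) = extG D ι (φ x) := by
  refine DFunLike.congr_fun (?_ : ψ.comp (stMap D ι) = (extG D ι).comp φ) x
  refine PresentedGroup.ext fun ⟨r, t⟩ => ?_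
  have e : (PresentedGroup.of (r, t) : D.SteinbergGroup K) = D.stGen K r.val t := by
    simp [ChevalleyDatum.stGen, ChevalleyDatum.stX, PresentedGroup.of]
  rw [e, MonoidHom.comp_apply, MonoidHom.comp_apply, stMap_gen, hψ r.val (ι t) r.isLt,
    hφ r.val t r.isLt, extG_xU ι hF r.isLt]

end Map

theorem extG_nW {K : Type v} [Field K] {L : Type w} [Field L] (hF : Facts D co) (ι : K →+* L)
    (l : List (Fin D.rank)) : extG D ι (nW D K l) = nW D L l := by
  induction l with
  | nil => rw [nW_nil, nW_nil, map_one]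
  | cons j l ih =>
    rw [nW_cons, nW_cons, map_mul, ih, nS, nS]
    congr 1
    simp only [nU, map_mul, extG_xU ι hF (hF.simple_lt' j.isLt),
      extG_xU ι hF (hF.neg_lt (hF.simple_lt' j.isLt)), map_neg, map_inv₀, map_one]

/-! ### Weights -/

variable {K : Type v} [Field K]

/-- Coordinates as a function of natural numbers. -/
def extC (D : ChevalleyDatum) (c : Fin D.rank → Kˣ) : ℕ → Kˣ :=
  fun i => if h : i < D.rank then c ⟨i, h⟩ else 1

/-- The value of a torus point on a weight in fundamental coordinates. -/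
def wHom (c : Fin D.rank → Kˣ) : (Fin D.rank → ℤ) →+ Additive Kˣ where
  toFun y := ∑ i, y i • Additive.ofMul (c i)
  map_zero' := by simp
  map_add' y z := by simp only [Pi.add_apply, add_zsmul, Finset.sum_add_distrib]

theorem wHom_single (c : Fin D.rank → Kˣ) (i : Fin D.rank) :
    wHom c (Pi.single i 1) = Additive.ofMul (c i) := by
  show ∑ j, (Pi.single i 1 : Fin D.rank → ℤ) j • Additive.ofMul (c j) = _
  rw [Finset.sum_eq_single i (fun j _ hj => by simp [hj]) (by simp)]
  simp

theorem wHom_injective {c c' : Fin D.rank → Kˣ} (h : ∀ y, wHom c y = wHom c' y) : c = c' :=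
  funext fun i => Additive.ofMul.injective (by rw [← wHom_single, h, wHom_single])

theorem wHom_pow (c : Fin D.rank → Kˣ) (m : ℕ) (y : Fin D.rank → ℤ) :
    wHom (c ^ m) y = (m : ℤ) • wHom c y := by
  show ∑ i, y i • Additive.ofMul ((c ^ m) i) = (m : ℤ) • ∑ i, y i • Additive.ofMul (c i)
  refine Eq.trans ?_ (map_sum (zsmulAddGroupHom (m : ℤ)) (fun i => y i • Additive.ofMul (c i))
    Finset.univ).symm
  exact Finset.sum_congr rfl fun i _ => by
    rw [Pi.pow_apply, ofMul_pow, ← natCast_zsmul, smul_comm]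
    rfl

/-- The torus point with prescribed values on weights. -/
def wPoint (L : (Fin D.rank → ℤ) →+ Additive Kˣ) : Fin D.rank → Kˣ :=
  fun i => Additive.toMul (L (Pi.single i 1))

theorem wHom_wPoint (L : (Fin D.rank → ℤ) →+ Additive Kˣ) (y : Fin D.rank → ℤ) :
    wHom (wPoint L) y = L y := by
  show ∑ i, y i • Additive.ofMul (wPoint L i) = L y
  conv_rhs => rw [pi_eq_sum_univ y]
  rw [map_sum]
  refine Finset.sum_congr rfl fun i _ => ?_
  have e : (fun j => if i = j then (1 : ℤ) else 0) = Pi.single i 1 := by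
    funext j; simp [Pi.single_apply, eq_comm]
  rw [e, map_zsmul]
  simp [wPoint]

theorem torHom_extC (c : Fin D.rank → Kˣ) (v : Fin D.rank → ℤ) :
    torHom D (extC D c) v = wHom c ((cartanMat D)ᵀ *ᵥ v) := by
  show ∑ q : Fin D.rank, v q • Additive.ofMul (chiT D (extC D c) (D.simple q.val)) =
    ∑ i, ((cartanMat D)ᵀ *ᵥ v) i • Additive.ofMul (c i)
  simp only [chiT, ofMul_prod, ofMul_zpow, ← Finset.sum_zsmul, ← mul_zsmul']
  simp only [← Fin.sum_univ_eq_sum_range]
  rw [Finset.sum_comm]
  refine Finset.sum_congr rfl fun i _ => ?_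
  have he : extC D c i.val = c i := by simp [extC]
  rw [he, sum_zsmul_const]
  congr 1

theorem chiT_extC (hF : Facts D co) (c : Fin D.rank → Kˣ) {s : ℕ} (hs : s < D.nroots) :
    Additive.ofMul (chiT D (extC D c) s) = wHom c ((cartanMat D)ᵀ *ᵥ coV D co s) := by
  rw [← torHom_coV hF (extC D c) hs, torHom_extC]

/-- The action of `wM l` on weights, when `wM l - 1 = R * Cᵀ`. -/
def wWt (D : ChevalleyDatum) (R : Matrix (Fin D.rank) (Fin D.rank) ℤ) :
    Matrix (Fin D.rank) (Fin D.rank) ℤ :=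
  1 + (cartanMat D)ᵀ * R

theorem wWt_mul {A R : Matrix (Fin D.rank) (Fin D.rank) ℤ} (h : A = 1 + R * (cartanMat D)ᵀ) :
    wWt D R * (cartanMat D)ᵀ = (cartanMat D)ᵀ * A := by
  rw [h, wWt, add_mul, mul_add, one_mul, mul_one, mul_assoc]

theorem reflM_eq (i : Fin D.rank) :
    reflM D i = 1 + (-Matrix.single i i (1 : ℤ)) * (cartanMat D)ᵀ := by
  ext j m
  rw [Matrix.add_apply, neg_mul, Matrix.neg_apply]
  by_cases h : i = j
  · subst h
    rw [Matrix.single_mul_apply_same]
    simp [reflM, cartanMat, Matrix.one_apply, sub_eq_add_neg]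
  · rw [Matrix.single_mul_apply_of_ne _ _ _ _ _ (Ne.symm h)]
    simp [reflM, Matrix.one_apply, h]

theorem exists_wM_eq (l : List (Fin D.rank)) :
    ∃ R, wM D l = 1 + R * (cartanMat D)ᵀ := by
  induction l with
  | nil => exact ⟨0, by simp [wM]⟩
  | cons i l ih =>
    obtain ⟨R, hR⟩ := ih
    refine ⟨-Matrix.single i i (1 : ℤ) + R + (-Matrix.single i i (1 : ℤ)) * (cartanMat D)ᵀ * R, ?_⟩
    rw [wM, List.map_cons, List.prod_cons, ← wM, hR, reflM_eq]
    noncomm_ring

/-- The torus parametrisation is faithful, the Cartan matrix has a cofactor matrix with multiplier `m`. -/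
structure TorusFacts (D : ChevalleyDatum) (Ad : Matrix (Fin D.rank) (Fin D.rank) ℤ) (m : ℕ) : Prop where
  pos : 0 < m
  left : Ad * cartanMat D = (m : ℤ) • (1 : Matrix (Fin D.rank) (Fin D.rank) ℤ)
  inj : ∀ (L : Type v) [Field L] (c : Fin D.rank → Lˣ), stT D c = 1 → c = 1

variable {Ad : Matrix (Fin D.rank) (Fin D.rank) ℤ} {m : ℕ}

theorem cartan_det_ne (hm : 0 < m)
    (h : Ad * cartanMat D = (m : ℤ) • (1 : Matrix (Fin D.rank) (Fin D.rank) ℤ)) :
    (cartanMat D).det ≠ 0 := fun h0 => by
  have := congrArg Matrix.det h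
  rw [Matrix.det_mul, h0, mul_zero, Matrix.det_smul, Matrix.det_one, mul_one] at this
  exact pow_ne_zero _ (by exact_mod_cast hm.ne') this.symm

theorem cancel_cartanT (hm : 0 < m)
    (h : Ad * cartanMat D = (m : ℤ) • (1 : Matrix (Fin D.rank) (Fin D.rank) ℤ))
    {X Y : Matrix (Fin D.rank) (Fin D.rank) ℤ}
    (e : X * (cartanMat D)ᵀ = Y * (cartanMat D)ᵀ) : X = Y := by
  have e' := congrArg (· * Adᵀ) e
  simp only [mul_assoc, ← Matrix.transpose_mul, h, Matrix.transpose_smul, Matrix.transpose_one,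
    Matrix.mul_smul, mul_one] at e'
  exact smul_right_injective _ (by exact_mod_cast hm.ne') e'

theorem pow_eq_one_of_actM
    (h : Ad * cartanMat D = (m : ℤ) • (1 : Matrix (Fin D.rank) (Fin D.rank) ℤ))
    {c : Fin D.rank → Kˣ} (hc : actM (cartanMat D) c = 1) : c ^ m = 1 := by
  refine wHom_injective fun y => ?_
  have h1 : ∀ q : Fin D.rank, wHom c ((cartanMat D)ᵀ *ᵥ Pi.single q 1) = 0 := fun q => by
    show ∑ i, ((cartanMat D)ᵀ *ᵥ Pi.single q 1) i • Additive.ofMul (c i) = 0
    have := congrArg Additive.ofMul (congrFun hc q)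
    simp only [Pi.one_apply, ofMul_one] at this
    rw [← this]
    show _ = Additive.ofMul (∏ i, c i ^ cartanMat D q i)
    rw [ofMul_prod]
    exact Finset.sum_congr rfl fun i _ => by simp [ofMul_zpow]
  have h2 : ∀ v, wHom c ((cartanMat D)ᵀ *ᵥ v) = 0 := fun v => by
    rw [pi_eq_sum_univ v, Matrix.mulVec_sum, map_sum]
    refine Finset.sum_eq_zero fun q _ => ?_
    have e : (fun j => if q = j then (1 : ℤ) else 0) = Pi.single q 1 := by
      funext j; simp [Pi.single_apply, eq_comm]
    rw [e, Matrix.mulVec_smul, map_zsmul, h1, smul_zero]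
  rw [wHom_pow, show wHom (1 : Fin D.rank → Kˣ) y = 0 by simp [wHom]]
  have h3 := h2 (Adᵀ *ᵥ y)
  rwa [Matrix.mulVec_mulVec, ← Matrix.transpose_mul, h, Matrix.transpose_smul, Matrix.transpose_one,
    Matrix.smul_mulVec, Matrix.one_mulVec, map_zsmul] at h3

variable (hF : Facts D co) (hN : HasNbr D) (hC : CommF.{v} D) (hT' : TorusFacts.{v} D Ad m)
include hF hN hC hT'

theorem stT_injective' {c c' : Fin D.rank → Kˣ} (h : stT D c = stT D c') : c = c' := by
  obtain ⟨φ, hφ⟩ := hF.exists_theta hC (K := K)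
  obtain ⟨f, hf, -⟩ := hF.st_torus_hom hN hφ
  rw [← inv_mul_eq_one, ← hf, ← hf, ← map_inv, ← map_mul, hf] at h
  exact inv_mul_eq_one.1 (hT'.inj K _ h)

/-- A kernel element is a torus element of exponent `m`. -/
theorem ker_stT {φ : D.SteinbergGroup K →* GL D.Idx K} (hφ : IsTheta D φ) {z : D.SteinbergGroup K}
    (hz : φ z = 1) :
    z ∈ Subgroup.center (D.SteinbergGroup K) ∧
      ∃ k : Fin D.rank → Kˣ, z = stT D k ∧ k ^ m = 1 := by
  obtain ⟨f, hf, hsurj⟩ := hF.st_torus_hom hN hφ
  obtain ⟨hH, hcen⟩ := hF.st_ker hφ hN hz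
  obtain ⟨k, rfl⟩ := hsurj z hH
  refine ⟨hcen, k, hf k, pow_eq_one_of_actM hT'.left ?_⟩
  rw [hf, hF.stT_map hN hφ, hF.hT_eq_one_iff] at hz
  simpa using hz

/-- A monomial element carries the torus by the action on weights, exactly. -/
theorem st_conj {φ : D.SteinbergGroup K →* GL D.Idx K} (hφ : IsTheta D φ) {n : D.SteinbergGroup K}
    (hn : φ n ∈ D.monomialSubgroup K) {l : List (Fin D.rank)} (hl : PermAct (φ n) (sW D l))
    {R : Matrix (Fin D.rank) (Fin D.rank) ℤ} (hR : wM D l = 1 + R * (cartanMat D)ᵀ)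
    {c c' : Fin D.rank → Kˣ} (hc : ∀ y, wHom c' y = wHom c (wWt D R *ᵥ y)) :
    n * stT D c' = stT D c * n := by
  classical
  obtain ⟨R', hR'⟩ := exists_wM_eq (D := D) l.reverse
  have hinv : wWt D R * wWt D R' = 1 := by
    refine cancel_cartanT hT'.pos hT'.left ?_
    rw [mul_assoc, wWt_mul hR', ← mul_assoc, wWt_mul hR, mul_assoc]
    have : wM D l * wM D l.reverse = 1 := by
      have := wM_reverse_mul hF l.reverse
      rwa [List.reverse_reverse] at this
    rw [this, mul_one, one_mul]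
  -- a big field
  let ι := algebraMap K (AlgebraicClosure K)
  obtain ⟨ψ, hψ⟩ := hF.exists_theta hC (K := AlgebraicClosure K)
  set nL := stMap D ι n with hnL
  have hnLm : ψ nL ∈ D.monomialSubgroup (AlgebraicClosure K) ∧ PermAct (ψ nL) (sW D l) := by
    obtain ⟨l', k, hk, hlk⟩ := hF.exists_nW hn
    have hll' : sW D l = sW D l' := by
      have := hF.permAct_mul (hF.permAct_nW (F := K) l') (hF.permAct_diagonal hk)
      rw [mul_one, ← hlk] at this
      exact hF.permAct_unique hl this
    obtain ⟨a, rfl⟩ := hF.mem_diagonal_iff.1 hk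
    have e : ψ nL = extG D ι (nW D K l') * hT D (fun i => Units.map ι.toMonoidHom (a i)) := by
      rw [hnL, map_stMap hF ι hφ hψ, hlk, map_mul, extG_hT]
    have e2 : extG D ι (nW D K l') = nW D (AlgebraicClosure K) l' := by
      exact extG_nW hF ι l'
    rw [e, e2, hll']
    have hd : hT D (fun i => Units.map ι.toMonoidHom (a i)) ∈
        D.diagonalSubgroup (AlgebraicClosure K) := hF.mem_diagonal_iff.2 ⟨_, rfl⟩
    refine ⟨Subgroup.mul_mem _ (hF.nW_mem l') (Subgroup.mem_sup_left hd), ?_⟩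
    simpa using hF.permAct_mul (hF.permAct_nW l') (hF.permAct_diagonal hd)
  -- roots of exponent `m`
  have hroot : ∀ x : (AlgebraicClosure K)ˣ, ∃ e : (AlgebraicClosure K)ˣ, e ^ m = x := fun x => by
    obtain ⟨z, hz⟩ := IsAlgClosed.exists_pow_nat_eq (x : AlgebraicClosure K) hT'.pos
    refine ⟨Units.mk0 z fun h0 => x.ne_zero (by rw [← hz, h0, zero_pow hT'.pos.ne']), Units.ext ?_⟩
    simpa using hz
  choose rt hrt using hroot
  set e' : Fin D.rank → (AlgebraicClosure K)ˣ := fun i => rt (Units.map ι.toMonoidHom (c' i)) with he'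
  set e := wPoint ((wHom e').comp
    (Matrix.mulVecLin (wWt D R')).toAddMonoidHom) with he
  have hee' : ∀ y, wHom e' y = wHom e (wWt D R *ᵥ y) := fun y => by
    rw [he, wHom_wPoint]
    show _ = wHom e' (wWt D R' *ᵥ (wWt D R *ᵥ y))
    rw [Matrix.mulVec_mulVec, mul_eq_one_comm.1 hinv, Matrix.one_mulVec]
  have hpow' : e' ^ m = fun i => Units.map ι.toMonoidHom (c' i) := funext fun i => hrt _
  have hpow : e ^ m = fun i => Units.map ι.toMonoidHom (c i) := by
    refine wHom_injective fun y => ?_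
    have hy : y = wWt D R *ᵥ (wWt D R' *ᵥ y) := by
      rw [Matrix.mulVec_mulVec, hinv, Matrix.one_mulVec]
    rw [hy]
    set y' := wWt D R' *ᵥ y
    rw [wHom_pow, ← hee', ← wHom_pow, hpow']
    let μ : Additive Kˣ →+ Additive (AlgebraicClosure K)ˣ := (Units.map ι.toMonoidHom).toAdditive
    have hμ : ∀ (d : Fin D.rank → Kˣ) (z : Fin D.rank → ℤ),
        wHom (fun i => Units.map ι.toMonoidHom (d i)) z = μ (wHom d z) := fun d z => by
      show ∑ i, z i • Additive.ofMul (Units.map ι.toMonoidHom (d i)) =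
        μ (∑ i, z i • Additive.ofMul (d i))
      rw [map_sum]
      exact Finset.sum_congr rfl fun i _ => (map_zsmul μ _ _).symm
    rw [hμ, hμ, hc]
  -- in the big field
  obtain ⟨f, hf, -⟩ := hF.st_torus_hom hN hψ
  have hchi : ∀ s : Fin D.nroots,
      chiT D (extC D e') s.val = chiT D (extC D e) (sW D l s).val := fun s => by
    refine Additive.ofMul.injective ?_
    rw [chiT_extC hF e' s.isLt, chiT_extC hF e (sW D l s).isLt, hee', Matrix.mulVec_mulVec,
      wWt_mul hR, ← Matrix.mulVec_mulVec, ← coV_sW hF]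
  set z := (stT D e)⁻¹ * (nL * stT D e' * nL⁻¹) with hz
  have hzker : ψ z = 1 := by
    rw [hz, map_mul, map_mul, map_mul, map_inv, map_inv, hF.stT_map hN hψ, hF.stT_map hN hψ]
    have h1 := monomial_conj_hT hF hnLm.1 hnLm.2 hchi
    change (hT D (extC D e))⁻¹ * (ψ nL * hT D (extC D e') * (ψ nL)⁻¹) = 1
    rw [h1, mul_inv_cancel_right, inv_mul_cancel]
  obtain ⟨-, k, hk, hkm⟩ := ker_stT hF hN hC hT' hψ hzker
  have hconj : nL * stT D e' * nL⁻¹ = f (e * k) := by
    rw [map_mul, hf, hf, ← hk, hz, mul_inv_cancel_left]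
  have hbig : nL * stMap D ι (stT D c') * nL⁻¹ = stMap D ι (stT D c) := by
    rw [stMap_stT, stMap_stT, ← hpow', ← hpow, ← hf (e' ^ m), ← hf (e ^ m), map_pow, hf,
      ← conj_pow, hconj, ← map_pow, mul_pow, hkm, mul_one]
  -- back to the small field
  set z' := (stT D c)⁻¹ * (n * stT D c' * n⁻¹) with hz'
  have hz'ker : φ z' = 1 := by
    rw [hz', map_mul, map_mul, map_mul, map_inv, map_inv, hF.stT_map hN hφ, hF.stT_map hN hφ]
    have hchi' : ∀ s : Fin D.nroots,
        chiT D (extC D c') s.val = chiT D (extC D c) (sW D l s).val := fun s => by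
      refine Additive.ofMul.injective ?_
      rw [chiT_extC hF c' s.isLt, chiT_extC hF c (sW D l s).isLt, hc, Matrix.mulVec_mulVec,
        wWt_mul hR, ← Matrix.mulVec_mulVec, ← coV_sW hF]
    have h1 := monomial_conj_hT hF hn hl hchi'
    change (hT D (extC D c))⁻¹ * (φ n * hT D (extC D c') * (φ n)⁻¹) = 1
    rw [h1, mul_inv_cancel_right, inv_mul_cancel]
  obtain ⟨-, k', hk', -⟩ := ker_stT hF hN hC hT' hφ hz'ker
  have h1 : stMap D ι z' = 1 := by
    rw [hz', map_mul, map_inv, map_mul, map_mul, map_inv, ← hnL, hbig, inv_mul_cancel]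
  rw [hk', stMap_stT] at h1
  have hk1 : k' = 1 := funext fun i => Units.map_injective ι.injective
    (by rw [congrFun (hT'.inj _ _ h1) i, Pi.one_apply, Pi.one_apply, map_one])
  obtain ⟨f', hf', -⟩ := hF.st_torus_hom hN hφ
  rw [hk1, ← hf', map_one, hz', inv_mul_eq_one] at hk'
  exact (mul_inv_eq_iff_eq_mul.1 hk'.symm)

end CfsgLib.Known.ChevSinger
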