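import Cfsg.Agent.Lib.Chev.Coxeter
import Cfsg.Agent.Lib.Chev.Table
import Cfsg.Agent.Lib.Known.ChevSinger.Linear
import Cfsg.Agent.Lib.Known.ChevSinger.Adjoint.Steinberg

/-!
# Certified conjugacy class representatives of a Weyl group

A finite list of words meets every class once the products with reflections are certified to stay in it;
further certificates exclude eigenvalues and fixed regular points.
-/

set_option autoImplicit false
set_option linter.unusedSectionVars false

namespace CfsgLib.Known.ChevSinger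

open Cfsg.Lie CfsgLib.Chev CfsgLib.Chev.Table Matrix

variable {D : ChevalleyDatum} {co : ℕ → ℕ → ℤ}

/-- The digits of a packed word. -/
def unpack : ℕ → ℕ → List ℕ
  | 0, _ => []
  | fuel + 1, n => bif Nat.beq n 0 then [] else (n % 8 - 1) :: unpack fuel (n / 8)

/-- A packed word as a word in the fundamental reflections. -/
def toWord (D : ChevalleyDatum) (n : ℕ) : List (Fin D.rank) :=
  (unpack 80 n).filterMap fun i => if h : i < D.rank then some ⟨i, h⟩ else none

/-- The word of the reflection in the image of a fundamental root. -/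
def reflWord (D : ChevalleyDatum) (y s : ℕ) : List (Fin D.rank) :=
  toWord D y ++ toWord D s ++ (toWord D y).reverse

theorem sW_ext (hF : Facts D co) {a b : List (Fin D.rank)}
    (h : ∀ q : Fin D.rank, sW D a (hF.simpleFin q) = sW D b (hF.simpleFin q)) : sW D a = sW D b := by
  have e : wM D a = wM D b := by
    ext j m
    have h1 := congrArg (fun t : Fin D.nroots => coV D co t.val j) (h m)
    simp only [coV_sW hF, show (hF.simpleFin m).val = D.simple m.val from rfl, coV_simple hF] at h1
    simpa [Matrix.mulVec_single_one] using h1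
  refine Equiv.ext fun s => coV_inj hF ?_
  rw [coV_sW hF, coV_sW hF, e]

/-- The reflection formula for a conjugate of a fundamental reflection. -/
theorem wM_conj_apply (hF : Facts D co)
    (hform : ∀ i, (reflM D i)ᵀ * (cartanMat D)ᵀ * reflM D i = (cartanMat D)ᵀ)
    (hsym : (cartanMat D)ᵀ = cartanMat D) (y : List (Fin D.rank)) (s : Fin D.rank)
    (u : Fin D.rank → ℤ) :
    wM D (y ++ [s] ++ y.reverse) *ᵥ u = u -
      ((wM D y *ᵥ Pi.single s 1) ⬝ᵥ (cartanMat D)ᵀ *ᵥ u) • (wM D y *ᵥ Pi.single s 1) := by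
  set X := wM D y with hX
  have hXinv : wM D y.reverse * X = 1 := wM_reverse_mul hF y
  have hXinv' : X * wM D y.reverse = 1 := mul_eq_one_comm.1 hXinv
  set w := wM D y.reverse *ᵥ u with hw
  have hu : u = X *ᵥ w := by rw [hw, Matrix.mulVec_mulVec, hXinv', Matrix.one_mulVec]
  have hs : wM D [s] = reflM D s := by simp [wM]
  rw [wM_append, wM_append, ← hX, hs, ← Matrix.mulVec_mulVec, ← hw, ← Matrix.mulVec_mulVec]
  have h1 : reflM D s *ᵥ w =
      w - ((cartanMat D)ᵀ *ᵥ w) s • (Pi.single s 1 : Fin D.rank → ℤ) := by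
    funext j
    rw [reflM_mulVec, Pi.sub_apply, Pi.smul_apply, smul_eq_mul]
    by_cases h : s = j
    · subst h
      simp [Matrix.mulVec, dotProduct, cartanMat]
    · simp [h, Ne.symm h]
  have h2 : ((cartanMat D)ᵀ *ᵥ w) s =
      (X *ᵥ Pi.single s 1) ⬝ᵥ (cartanMat D)ᵀ *ᵥ u := by
    rw [hu]
    generalize w = z
    rw [← Matrix.vecMul_transpose X, ← Matrix.dotProduct_mulVec, Matrix.mulVec_mulVec,
      Matrix.mulVec_mulVec, hX, wM_form hform y, single_dotProduct, one_mul]
  have _ := hsym
  rw [h1, Matrix.mulVec_sub, Matrix.mulVec_smul, ← hu, h2]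

theorem sW_refl_eq (hF : Facts D co)
    (hform : ∀ i, (reflM D i)ᵀ * (cartanMat D)ᵀ * reflM D i = (cartanMat D)ᵀ)
    (hsym : (cartanMat D)ᵀ = cartanMat D) (y y' : List (Fin D.rank)) (s s' : Fin D.rank)
    (h : wM D y *ᵥ Pi.single s 1 = wM D y' *ᵥ Pi.single s' 1 ∨
      wM D y *ᵥ Pi.single s 1 = -(wM D y' *ᵥ Pi.single s' 1)) :
    sW D (y ++ [s] ++ y.reverse) = sW D (y' ++ [s'] ++ y'.reverse) := by
  refine Equiv.ext fun r => coV_inj hF ?_
  rw [coV_sW hF, coV_sW hF, wM_conj_apply hF hform hsym, wM_conj_apply hF hform hsym]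
  rcases h with h | h <;> rw [h]
  rw [neg_dotProduct, neg_smul, smul_neg, _root_.neg_neg]

/-! ### Checks -/

/-- The representatives are closed under multiplication by reflections, up to certified conjugation. -/
def chkClasses (T : Tab) (D : ChevalleyDatum) (reps rfw cert : List (List ℕ)) : Bool :=
  let rp := fun i => toWord D (((reps.getD i []).getD 0 0))
  Nat.beq (((reps.getD 0 []).getD 0 0)) 0 && Nat.blt 0 reps.length &&
  (allBelow (T.nroots / 2) fun t =>
    let y := (rfw.getD t []).getD 0 0
    let s := (rfw.getD t []).getD 1 0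
    Nat.beq (toWord D s).length 1 &&
      Nat.beq (actW T ((toWord D y).map Fin.val) (T.smp (((toWord D s).map Fin.val).headD 0)))
        (T.nroots / 2 + t)) &&
  allBelow reps.length fun i => allBelow (T.nroots / 2) fun t =>
    let c := (cert.getD i []).getD t 0
    let j := c % 128
    let x := toWord D (c / 128)
    Nat.blt j reps.length && allBelow T.rank fun q =>
      Nat.beq
        (actW T ((rp i ++ reflWord D ((rfw.getD t []).getD 0 0) ((rfw.getD t []).getD 1 0)).map Fin.val)
          (T.smp q))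
        (actW T ((x ++ rp j ++ x.reverse).map Fin.val) (T.smp q))

/-- The word of the `i`-th representative. -/
def repWord (D : ChevalleyDatum) (reps : List (List ℕ)) (i : ℕ) : List (Fin D.rank) :=
  toWord D (((reps.getD i []).getD 0 0))

variable {T : Tab} (hA : T.chkArrays D = true) (hC : T.chkChain D = true) (hF : Facts D co)
include hA hC hF

theorem exists_rep (hform : ∀ i, (reflM D i)ᵀ * (cartanMat D)ᵀ * reflM D i = (cartanMat D)ᵀ)
    (hsym : (cartanMat D)ᵀ = cartanMat D) {reps rfw cert : List (List ℕ)}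
    (hk : chkClasses T D reps rfw cert = true) :
    repWord D reps 0 = [] ∧ ∀ l : List (Fin D.rank), ∃ i < reps.length, ∃ x : List (Fin D.rank),
      sW D l = sW D (x ++ repWord D reps i ++ x.reverse) := by
  simp only [chkClasses, Bool.and_eq_true, blt_iff] at hk
  obtain ⟨⟨⟨h0, hpos⟩, hrf⟩, hcl⟩ := hk
  have hzero : repWord D reps 0 = [] := by
    rw [repWord, Nat.eq_of_beq_eq_true h0]
    rfl
  refine ⟨hzero, fun l => ?_⟩
  induction l using List.reverseRecOn with
  | nil => exact ⟨0, hpos, [], by simp [hzero]⟩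
  | append_singleton l s ih =>
    obtain ⟨i, hi, x, hx⟩ := ih
    have hn := nroots_eq hA (D := D)
    have hsimp : ∀ q : Fin D.rank, (hF.simpleFin q).val = T.smp q.val := fun q => simple_eq hA q.isLt
    -- the positive root met by `x⁻¹`
    set u := sW D x.reverse (hF.simpleFin s) with hu
    obtain ⟨u', hu'h, hu'⟩ : ∃ u' : Fin D.nroots, D.nroots / 2 ≤ u'.val ∧
        (coV D co u.val = coV D co u'.val ∨ coV D co u.val = -coV D co u'.val) := by
      by_cases h : D.nroots / 2 ≤ u.val
      · exact ⟨u, h, Or.inl rfl⟩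
      · exact ⟨hF.negFin u, (hF.neg_lt_half u.isLt).2 (by omega), Or.inr (by
          rw [show (hF.negFin u).val = D.neg u.val from rfl, coV_neg hF u.isLt, _root_.neg_neg])⟩
    have hev := hF.nroots_even
    have ht : u'.val - D.nroots / 2 < T.nroots / 2 := by
      have := u'.isLt
      omega
    set t := u'.val - D.nroots / 2 with htdef
    have hrt := allBelow_spec hrf t ht
    simp only [Bool.and_eq_true] at hrt
    obtain ⟨hlen, hact⟩ := hrt
    replace hlen := Nat.eq_of_beq_eq_true hlen
    replace hact := Nat.eq_of_beq_eq_true hact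
    obtain ⟨s', hs'⟩ := List.length_eq_one_iff.1 hlen
    rw [hs'] at hact
    set y := toWord D ((rfw.getD t []).getD 0 0) with hy
    have hroot : sW D y (hF.simpleFin s') = u' := by
      refine Fin.ext ?_
      rw [actW_eq hA hC hF, hsimp]
      rw [List.map_cons, List.headD_cons] at hact
      rw [hact]
      omega
    have hrefl : sW D (x.reverse ++ [s] ++ x.reverse.reverse) =
        sW D (y ++ [s'] ++ y.reverse) := by
      refine sW_refl_eq hF hform hsym _ _ _ _ ?_
      rw [← coV_simple hF s, ← coV_simple hF s',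
        show D.simple s.val = (hF.simpleFin s).val from rfl,
        show D.simple s'.val = (hF.simpleFin s').val from rfl, ← coV_sW hF, ← coV_sW hF, hroot, ← hu]
      exact hu'
    have hc := allBelow_spec (allBelow_spec hcl i hi) t ht
    simp only [Bool.and_eq_true, blt_iff] at hc
    obtain ⟨hj, hq⟩ := hc
    set c := (cert.getD i []).getD t 0 with hcdef
    refine ⟨c % 128, hj, x ++ toWord D (c / 128), ?_⟩
    have heq : sW D (repWord D reps i ++ (y ++ [s'] ++ y.reverse)) =
        sW D (toWord D (c / 128) ++ repWord D reps (c % 128) ++ (toWord D (c / 128)).reverse) := by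
      refine sW_ext hF fun q => Fin.ext ?_
      rw [actW_eq hA hC hF, actW_eq hA hC hF, hsimp]
      have h := allBelow_spec hq q.val (rank_eq hA (D := D) ▸ q.isLt)
      replace h := Nat.eq_of_beq_eq_true h
      rw [reflWord, hs', ← hy] at h
      exact h
    simp only [sW_append, hF.sW_reverse, List.reverse_append, inv_inv] at hx hrefl heq ⊢
    rw [hx, mul_assoc (sW D x) (sW D (toWord D (c / 128)))]
    calc sW D x * sW D (repWord D reps i) * (sW D x)⁻¹ * sW D [s]
        = sW D x * (sW D (repWord D reps i) * ((sW D x)⁻¹ * sW D [s] * sW D x)) * (sW D x)⁻¹ := by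
          group
      _ = _ := by rw [hrefl, heq]; group

/-- The `k`-th iterate of a word on a root. -/
theorem actPow_sW (l : List (Fin D.rank)) (k : ℕ) (s : Fin D.nroots) :
    actPow T (l.map Fin.val) k s.val = ((sW D l ^ k) s).val :=
  (actPow_eq hA hC hF l k s).symm

end CfsgLib.Known.ChevSinger

namespace CfsgLib.Known.ChevSinger

open Cfsg.Lie CfsgLib.Chev CfsgLib.Chev.Table Matrix

/-- The image of a root under the product of the `g ^ k - 1`. -/
def killCo (T : Tab) (w : List ℕ) : List ℕ → ℕ → ℕ → ℤ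
  | [], s, j => T.co s j
  | k :: ks, s, j => killCo T w ks (actPow T w k s) j - killCo T w ks s j

/-- The product of the `g ^ k - 1` vanishes. -/
def chkKill (T : Tab) (w ks : List ℕ) : Bool :=
  (allBelow T.rank fun q => allBelow T.rank fun j => decide (killCo T w ks (T.smp q) j = 0)) &&
    ks.all fun k => !Nat.beq (k % 12) 0

/-- A root in the image of `g - 1` up to a multiplier. -/
def chkFix (T : Tab) (w : List ℕ) (v : List ℤ) (m b : ℕ) : Bool :=
  Nat.blt 0 m && Nat.ble m 12 && Nat.blt b T.nroots &&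
  allBelow T.rank fun j => decide
    (((List.range T.rank).map fun q =>
      v.getD q 0 * (T.co (actW T w (T.smp q)) j - T.co (T.smp q) j)).sum = (m : ℤ) * T.co b j)

variable {D : ChevalleyDatum} {T : Tab} (hA : T.chkArrays D = true) (hC : T.chkChain D = true)
  (hF : Facts D T.co) {M : Type*} [AddCommGroup M]
include hA hC hF

theorem hom_kill {l : List (Fin D.rank)} (L : (Fin D.rank → ℤ) →+ M) (q : ℤ)
    (hL : ∀ v, L (wM D l *ᵥ v) = q • L v) : ∀ (ks : List ℕ) (s : Fin D.nroots),
      L (fun j => killCo T (l.map Fin.val) ks s.val j.val) =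
        (ks.map fun k => q ^ k - 1).prod • L (coV D T.co s.val) := by
  have hpow : ∀ (k : ℕ) (s : Fin D.nroots),
      L (coV D T.co ((sW D l ^ k) s).val) = q ^ k • L (coV D T.co s.val) := by
    intro k
    induction k with
    | zero => intro s; simp
    | succ k ih =>
      intro s
      rw [pow_succ', Equiv.Perm.mul_apply, coV_sW hF, hL, ih, pow_succ', mul_smul]
  intro ks
  induction ks with
  | nil => intro s; simp [killCo]; rfl
  | cons k ks ih =>
    intro s
    have e : (fun j : Fin D.rank => killCo T (l.map Fin.val) (k :: ks) s.val j.val) =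
        (fun j : Fin D.rank => killCo T (l.map Fin.val) ks ((sW D l ^ k) s).val j.val) -
          fun j : Fin D.rank => killCo T (l.map Fin.val) ks s.val j.val := by
      funext j
      simp only [killCo, Pi.sub_apply, actPow_sW hA hC hF]
    rw [e, map_sub, ih, ih, hpow, List.map_cons, List.prod_cons, ← mul_smul, ← sub_smul]
    congr 1
    ring

theorem not_eigen_of_chk {l : List (Fin D.rank)} {ks : List ℕ}
    (hk : chkKill T (l.map Fin.val) ks = true) (L : (Fin D.rank → ℤ) →+ M) {q r : ℕ}
    [Fact r.Prime] (hq : orderOf (q : ZMod r) = 12) (hrL : ∀ v, (r : ℤ) • L v = 0)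
    (hL : ∀ v, L (wM D l *ᵥ v) = (q : ℤ) • L v) : L = 0 := by
  simp only [chkKill, Bool.and_eq_true, List.all_eq_true, Bool.not_eq_true'] at hk
  obtain ⟨h1, h2⟩ := hk
  refine hom_ext_roots hF fun s => ?_
  have hsimple : ∀ i : Fin D.rank, L (Pi.single i 1) = 0 := by
    intro i
    have h := hom_kill hA hC hF L (q : ℤ) hL ks (hF.simpleFin i)
    have e : (fun j : Fin D.rank => killCo T (l.map Fin.val) ks (hF.simpleFin i).val j.val) = 0 := by
      funext j
      have := allBelow_spec (allBelow_spec h1 i.val (rank_eq hA (D := D) ▸ i.isLt)) j.val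
        (rank_eq hA (D := D) ▸ j.isLt)
      rw [show (hF.simpleFin i).val = T.smp i.val from simple_eq hA i.isLt]
      simpa using this
    rw [e, map_zero, show (hF.simpleFin i).val = D.simple i.val from rfl, coV_simple hF] at h
    refine eq_zero_of_coprime_zsmul Fact.out (hrL _) ?_ h.symm
    intro hdvd
    obtain ⟨z, hz, hzd⟩ :=
      (Nat.prime_iff_prime_int.1 (Fact.out : r.Prime)).dvd_prod_iff.1 hdvd
    obtain ⟨k, hkmem, rfl⟩ := List.mem_map.1 hz
    have h3 : (q : ZMod r) ^ k = 1 := by
      have := (ZMod.intCast_zmod_eq_zero_iff_dvd _ r).2 hzd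
      push_cast at this
      exact sub_eq_zero.1 this
    have h4 : 12 ∣ k := hq ▸ orderOf_dvd_of_pow_eq_one h3
    have h5 := h2 k hkmem
    rw [Nat.mod_eq_zero_of_dvd h4] at h5
    exact absurd h5 (by decide)
  rw [AddMonoidHom.zero_apply, pi_eq_sum_univ (coV D T.co s.val), map_sum]
  refine Finset.sum_eq_zero fun i _ => ?_
  have e : (fun j => if i = j then (1 : ℤ) else 0) = Pi.single i 1 := by
    funext j; simp [Pi.single_apply, eq_comm]
  rw [e, map_zsmul, hsimple, smul_zero]

theorem not_fix_of_chk {l : List (Fin D.rank)} {v : List ℤ} {m b : ℕ}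
    (hk : chkFix T (l.map Fin.val) v m b = true) (L : (Fin D.rank → ℤ) →+ M) {r : ℕ}
    [Fact r.Prime] (hr : 12 < r) (hrL : ∀ v, (r : ℤ) • L v = 0)
    (hL : ∀ v, L (wM D l *ᵥ v) = L v) : ∃ s : Fin D.nroots, L (coV D T.co s.val) = 0 := by
  simp only [chkFix, Bool.and_eq_true, blt_iff, Nat.ble_eq] at hk
  obtain ⟨⟨⟨hm, hm'⟩, hb⟩, hall⟩ := hk
  have hb' : b < D.nroots := nroots_eq hA (D := D) ▸ hb
  refine ⟨⟨b, hb'⟩, eq_zero_of_coprime_zsmul Fact.out (hrL _) (a := (m : ℤ)) ?_ ?_⟩
  · intro h
    have := Nat.le_of_dvd hm (Int.natCast_dvd_natCast.1 h)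
    omega
  · have e : (m : ℤ) • coV D T.co b = ∑ i : Fin D.rank, v.getD i.val 0 •
        (coV D T.co (sW D l (hF.simpleFin i)).val - coV D T.co (hF.simpleFin i).val) := by
      funext j
      have h := allBelow_spec hall j.val (rank_eq hA (D := D) ▸ j.isLt)
      rw [decide_eq_true_eq, ← rank_eq hA (D := D)] at h
      rw [Pi.smul_apply, smul_eq_mul, coV, ← h, Finset.sum_apply, ← List.sum_toFinset _ List.nodup_range,
        List.toFinset_range, ← Fin.sum_univ_eq_sum_range]
      refine Finset.sum_congr rfl fun i _ => ?_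
      rw [Pi.smul_apply, Pi.sub_apply, smul_eq_mul, coV, coV, actW_eq hA hC hF,
        show (hF.simpleFin i).val = T.smp i.val from simple_eq hA i.isLt]
    rw [← map_zsmul, e, map_sum]
    exact Finset.sum_eq_zero fun i _ => by rw [map_zsmul, map_sub, coV_sW hF, hL, sub_self, smul_zero]

end CfsgLib.Known.ChevSinger

namespace CfsgLib.Known.ChevSinger

open Cfsg.Lie CfsgLib.Chev CfsgLib.Chev.Table Matrix

/-- Vectors killed by an eigenfunctional of order twelve vanishing on the root `b`. -/
def regCol (T : Tab) (w : List ℕ) (b k j : ℕ) : ℤ :=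
  if k < T.rank then T.co (actPow T w k b) j
  else T.co (actPow T w 4 (T.smp (k - T.rank))) j - T.co (actPow T w 2 (T.smp (k - T.rank))) j +
    T.co (T.smp (k - T.rank)) j

/-- The root `b`, a multiplier, and a right inverse of `regCol` up to this multiplier. -/
def chkRegCase (T : Tab) (w : List ℕ) (b m : ℕ) (X : List ℤ) : Bool :=
  Nat.blt 0 m && Nat.ble m 12 && Nat.blt b T.nroots &&
  allBelow T.rank fun i => allBelow T.rank fun j => decide
    (((List.range (2 * T.rank)).map fun k => regCol T w b k i * X.getD (k * T.rank + j) 0).sum =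
      if i = j then (m : ℤ) else 0)

/-- Every root reaches a certified root. -/
def chkReg (T : Tab) (w : List ℕ) (cs : List (ℕ × ℕ × List ℤ)) : Bool :=
  (allBelow cs.length fun c =>
    chkRegCase T w (cs.getD c (0, 0, [])).1 (cs.getD c (0, 0, [])).2.1 (cs.getD c (0, 0, [])).2.2) &&
  allBelow T.nroots fun s => anyBelow cs.length fun c => anyBelow 12 fun k =>
    Nat.beq (actPow T w k s) (cs.getD c (0, 0, [])).1

variable {D : ChevalleyDatum} {T : Tab} (hA : T.chkArrays D = true) (hC : T.chkChain D = true)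
  (hF : Facts D T.co) {M : Type*} [AddCommGroup M]
include hA hC hF

theorem regular_of_chk {l : List (Fin D.rank)} {cs : List (ℕ × ℕ × List ℤ)}
    (hk : chkReg T (l.map Fin.val) cs = true) (L : (Fin D.rank → ℤ) →+ M) {q r : ℕ}
    [Fact r.Prime] (hr : 12 < r) (ho : orderOf (q : ZMod r) = 12) (hrL : ∀ v, (r : ℤ) • L v = 0)
    (hL : ∀ v, L (wM D l *ᵥ v) = (q : ℤ) • L v) (hne : ∃ v, L v ≠ 0) (s : Fin D.nroots) :
    L (coV D T.co s.val) ≠ 0 := by
  intro h0
  simp only [chkReg, Bool.and_eq_true] at hk
  obtain ⟨c, hc, hk'⟩ := anyBelow_spec (allBelow_spec hk.2 s.val (nroots_eq hA (D := D) ▸ s.isLt))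
  obtain ⟨k, -, hk''⟩ := anyBelow_spec hk'
  have hcase := allBelow_spec hk.1 c hc
  set b := (cs.getD c (0, 0, [])).1
  set m := (cs.getD c (0, 0, [])).2.1
  set X := (cs.getD c (0, 0, [])).2.2
  have hb := Nat.eq_of_beq_eq_true hk''
  simp only [chkRegCase, Bool.and_eq_true, blt_iff, Nat.ble_eq] at hcase
  obtain ⟨⟨⟨hm, hm'⟩, -⟩, hall⟩ := hcase
  have hpow : ∀ (k : ℕ) (s : Fin D.nroots),
      L (coV D T.co ((sW D l ^ k) s).val) = (q : ℤ) ^ k • L (coV D T.co s.val) := by
    intro k
    induction k with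
    | zero => intro s; simp
    | succ k ih =>
      intro s
      rw [pow_succ', Equiv.Perm.mul_apply, coV_sW hF, hL, ih, pow_succ', mul_smul]
  -- the twelfth cyclotomic value
  have hΦ : ((q : ZMod r) ^ 4 - (q : ZMod r) ^ 2 + 1) = 0 := by
    have h12 : (q : ZMod r) ^ 12 = 1 := ho ▸ pow_orderOf_eq_one _
    have hn : ∀ i, 0 < i → i < 12 → (q : ZMod r) ^ i ≠ 1 := fun i h1 h2 h => by
      have := orderOf_le_of_pow_eq_one h1 h
      omega
    have e : ((q : ZMod r) ^ 6 - 1) * ((q : ZMod r) ^ 2 + 1) *
        ((q : ZMod r) ^ 4 - (q : ZMod r) ^ 2 + 1) = 0 := by linear_combination h12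
    rcases mul_eq_zero.1 e with e | e
    · rcases mul_eq_zero.1 e with e | e
      · exact absurd (sub_eq_zero.1 e) (hn 6 (by norm_num) (by norm_num))
      · exact absurd (show (q : ZMod r) ^ 4 = 1 by linear_combination ((q : ZMod r) ^ 2 - 1) * e)
          (hn 4 (by norm_num) (by norm_num))
    · exact e
  obtain ⟨z, hz⟩ : (r : ℤ) ∣ (q : ℤ) ^ 4 - (q : ℤ) ^ 2 + 1 :=
    (ZMod.intCast_zmod_eq_zero_iff_dvd _ r).1 (by exact_mod_cast hΦ)
  have hcol : ∀ k < 2 * T.rank, L (fun j => regCol T (l.map Fin.val) b k j.val) = 0 := by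
    intro i hi
    by_cases hir : i < T.rank
    · have e : (fun j : Fin D.rank => regCol T (l.map Fin.val) b i j.val) =
          coV D T.co ((sW D l ^ (i + k)) s).val := by
        funext j
        rw [coV, regCol, if_pos hir, pow_add, Equiv.Perm.mul_apply, ← actPow_sW hA hC hF,
          ← actPow_sW hA hC hF, hb]
      rw [e, hpow, h0, smul_zero]
    · have hj : i - T.rank < D.rank := by rw [rank_eq hA (D := D)]; omega
      set a := hF.simpleFin ⟨i - T.rank, hj⟩ with ha
      have hav : a.val = T.smp (i - T.rank) := simple_eq hA hj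
      have e : (fun j : Fin D.rank => regCol T (l.map Fin.val) b i j.val) =
          coV D T.co ((sW D l ^ 4) a).val - coV D T.co ((sW D l ^ 2) a).val +
            coV D T.co a.val := by
        funext j
        rw [Pi.add_apply, Pi.sub_apply, coV, coV, coV, regCol, if_neg hir, ← hav,
          actPow_sW hA hC hF, actPow_sW hA hC hF]
      rw [e, map_add, map_sub, hpow, hpow]
      calc _ = ((q : ℤ) ^ 4 - (q : ℤ) ^ 2 + 1) • L (coV D T.co a.val) := by
            rw [add_smul, sub_smul, one_smul]
        _ = 0 := by rw [hz, mul_comm, mul_smul, hrL, smul_zero]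
  have hrk := rank_eq hA (D := D)
  have hzero : ∀ j : Fin D.rank, L (Pi.single j 1) = 0 := by
    intro j
    refine eq_zero_of_coprime_zsmul Fact.out (hrL _) (a := (m : ℤ)) ?_ ?_
    · intro h
      have := Nat.le_of_dvd hm (Int.natCast_dvd_natCast.1 h)
      omega
    · have e : (m : ℤ) • (Pi.single j 1 : Fin D.rank → ℤ) =
          ∑ i : Fin (2 * T.rank), X.getD (i.val * T.rank + j.val) 0 •
            fun a : Fin D.rank => regCol T (l.map Fin.val) b i.val a.val := by
        funext a
        have h := allBelow_spec (allBelow_spec hall a.val (hrk ▸ a.isLt)) j.val (hrk ▸ j.isLt)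
        rw [decide_eq_true_eq] at h
        rw [Finset.sum_apply, Pi.smul_apply, Pi.single_apply, smul_eq_mul]
        have h2 : (if a = j then (m : ℤ) else 0) = if a.val = j.val then (m : ℤ) else 0 := by
          simp [Fin.ext_iff]
        rw [mul_ite, mul_one, mul_zero, h2, ← h, ← List.sum_toFinset _ List.nodup_range,
          List.toFinset_range, ← Fin.sum_univ_eq_sum_range]
        exact Finset.sum_congr rfl fun i _ => by rw [Pi.smul_apply, smul_eq_mul, mul_comm]
      rw [← map_zsmul, e, map_sum]
      exact Finset.sum_eq_zero fun i _ => by rw [map_zsmul, hcol i.val i.isLt, smul_zero]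
  obtain ⟨v, hv⟩ := hne
  refine hv ?_
  rw [pi_eq_sum_univ v, map_sum]
  refine Finset.sum_eq_zero fun i _ => ?_
  have e : (fun j => if i = j then (1 : ℤ) else 0) = Pi.single i 1 := by
    funext j; simp [Pi.single_apply, eq_comm]
  rw [e, map_zsmul, hzero, smul_zero]

end CfsgLib.Known.ChevSinger
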