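import Cfsg.Agent.Lib.Known.ChevSinger.Torus

/-!
# A prime of order twelve and the index of the diagonal subgroup
-/

set_option autoImplicit false

namespace CfsgLib.Known.ChevSinger

open Finset

/-- A prime `r` modulo which `q` has order twelve. -/
theorem exists_twelve {q : ℕ} (hq : 2 ≤ q) :
    ∃ r : ℕ, r.Prime ∧ 12 < r ∧ r ∣ q ^ 12 - 1 ∧ orderOf (q : ZMod r) = 12 := by
  by_cases he : (12, q) ∈ CfsgLib.Recognition.Zsigmondy.exceptions
  · have : q = 2 := by
      simpa [CfsgLib.Recognition.Zsigmondy.exceptions] using he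
    subst this
    refine ⟨13, by norm_num, by norm_num, by norm_num, ?_⟩
    rw [orderOf_eq_iff (by norm_num)]
    refine ⟨by decide, fun m hm hm0 => ?_⟩
    interval_cases m <;> decide
  · obtain ⟨r, hr, hrd, ho, k, hk⟩ := exists_primitive (d := 12) (by norm_num) hq he
    refine ⟨r, hr, ?_, hrd, ho⟩
    have := hr.two_le
    rcases Nat.eq_zero_or_pos k with rfl | hk0
    · omega
    · nlinarith [Nat.sub_add_cancel (le_of_lt hr.one_lt)]

theorem prod_pow_sub_one {Q : ℕ} (hQ : 1 ≤ Q) (ds : List ℕ) :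
    (ds.map fun d => Q ^ d - 1).prod =
      (Q - 1) ^ ds.length * (ds.map fun d => ∑ i ∈ range d, Q ^ i).prod := by
  induction ds with
  | nil => simp
  | cons d ds ih =>
    rw [List.map_cons, List.prod_cons, List.map_cons, List.prod_cons, ih, List.length_cons,
      pow_succ, ← geom_sum_mul_of_one_le hQ d]
    ring

/-- The index of the diagonal subgroup over a field containing `F_{q¹²}` is prime to `r`. -/
theorem exists_index {Q N a b g r : ℕ} (hr : r.Prime) (hQ : 2 ≤ Q) (hrQ : r ∣ Q - 1) {ds : List ℕ}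
    (hg : g ≠ 0) (hds : ∀ d ∈ ds, 0 < d ∧ d < r)
    (ha : g * a = Q ^ N * (ds.map fun d => Q ^ d - 1).prod)
    (hb : g * b = (Q - 1) ^ ds.length) : ∃ idx, a = b * idx ∧ ¬ r ∣ idx := by
  refine ⟨Q ^ N * (ds.map fun d => ∑ i ∈ range d, Q ^ i).prod, ?_, ?_⟩
  · refine Nat.eq_of_mul_eq_mul_left (Nat.pos_of_ne_zero hg) ?_
    rw [ha, ← mul_assoc, hb, prod_pow_sub_one (by omega)]
    ring
  · have : Fact r.Prime := ⟨hr⟩
    have h1 : (Q : ZMod r) = 1 := by
      have := (ZMod.natCast_eq_zero_iff _ _).2 hrQ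
      rw [Nat.cast_sub (by omega), Nat.cast_one, sub_eq_zero] at this
      exact this
    rw [← ZMod.natCast_eq_zero_iff, Nat.cast_mul, Nat.cast_pow, h1, one_pow, one_mul,
      Nat.cast_list_prod, List.map_map, List.prod_eq_zero_iff, List.mem_map]
    rintro ⟨d, hd, h0⟩
    obtain ⟨hd0, hdr⟩ := hds d hd
    have h2 : (d : ZMod r) = 0 := by simpa [h1] using h0
    rw [ZMod.natCast_eq_zero_iff] at h2
    exact absurd (Nat.le_of_dvd hd0 h2) (not_le.2 hdr)

end CfsgLib.Known.ChevSinger
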