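import Cfsg.Agent.Lib.Known.ChevSinger.Adjoint.E6Data
import Cfsg.Agent.Lib.Known.ChevSinger.Adjoint.Twelve
import Cfsg.Agent.Lib.Known.ChevLift.CentreE

/-!
A self-centralising cyclic torus of `E₆(q)` of order `(q⁴ - q² + 1)(q² + q + 1) / (3, q - 1)`.
-/

set_option autoImplicit false
set_option maxRecDepth 20000

namespace CfsgLib.Known.ChevSinger.AdjE6

open Cfsg.Lie CfsgLib.Chev Polynomial Matrix

universe u v

theorem torus : TorusFacts.{v} chevE6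
    (!![4, 3, 5, 6, 4, 2; 3, 6, 6, 9, 6, 3; 5, 6, 10, 12, 8, 4; 6, 9, 12, 18, 12, 6;
      4, 6, 8, 12, 10, 5; 2, 3, 4, 6, 5, 4] : Matrix (Fin 6) (Fin 6) ℤ) 3 where
  pos := by norm_num
  left := by decide +kernel
  inj L _ c hc := Lift.stT_injective DataE6.facts Lift.laced_E6.{v}.unit DataE8.facts Lift.laced_E8.{v}.unit
    good_E8.comm (hasNbr_of_mem (by simp))
    (Lift.embeds_of_chk DataE6.chk_arrays DataE6.chk_chain DataE8.chk_arrays DataE8.chk_chain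
      Lift.chkEmb_E6)
    (M := (!![4, 5, 7, 10, 8, 6, 4, 2; 5, 8, 10, 15, 12, 9, 6, 3; 7, 10, 14, 20, 16, 12, 8, 4;
      10, 15, 20, 30, 24, 18, 12, 6; 8, 12, 16, 24, 20, 15, 10, 5; 6, 9, 12, 18, 15, 12, 8, 4;
      4, 6, 8, 12, 10, 8, 6, 3; 2, 3, 4, 6, 5, 4, 3, 2] : Matrix (Fin 8) (Fin 8) ℤ))
    (by decide +kernel) hc

/-- The Weyl element. -/
def A0 : Matrix (Fin 6) (Fin 6) ℤ :=
  !![-1, 0, 1, 0, 0, 0; 0, -1, 0, 1, 0, 0; -1, 0, 0, 1, 0, 0; -1, -1, 0, 1, 1, 0;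
    -1, -1, 0, 1, 0, 1; -1, -1, 0, 1, 0, 0]
/-- Its square. -/
def A2 : Matrix (Fin 6) (Fin 6) ℤ :=
  !![0, 0, -1, 1, 0, 0; -1, 0, 0, 0, 1, 0; 0, -1, -1, 1, 1, 0; -1, -1, -1, 1, 1, 1;
    -1, -1, -1, 1, 1, 0; 0, 0, -1, 0, 1, 0]
/-- Its cube. -/
def A3 : Matrix (Fin 6) (Fin 6) ℤ :=
  !![0, -1, 0, 0, 1, 0; 0, -1, -1, 1, 0, 1; -1, -1, 0, 0, 1, 1; -1, -2, -1, 1, 1, 1;
    0, -1, -1, 0, 1, 1; 0, -1, 0, 0, 0, 1]
/-- Its fifth power. -/
def A5 : Matrix (Fin 6) (Fin 6) ℤ :=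
  !![0, -1, -1, 1, 0, 0; 0, 0, -1, 0, 0, 1; 0, -1, -1, 0, 1, 0; 0, -1, -1, 0, 0, 1;
    0, 0, -1, 0, 0, 0; 1, 0, -1, 0, 0, 0]
/-- Its sixth power. -/
def A6 : Matrix (Fin 6) (Fin 6) ℤ :=
  !![0, 0, 0, -1, 1, 0; 0, -1, 0, 0, 0, 0; 0, 0, 0, -1, 0, 1; 0, 0, 0, -1, 0, 0;
    1, 0, 0, -1, 0, 0; 0, 0, 1, -1, 0, 0]

theorem word_mat : wM chevE6 (repWord chevE6 reps 20) = A0 := by
  have h : @id (Matrix (Fin 6) (Fin 6) ℤ) (wM chevE6 (repWord chevE6 reps 20)) = A0 := by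
    decide +kernel
  exact h

theorem pow_mats : A0 * A0 = A2 ∧ A0 * A2 = A3 ∧ A2 * A3 = A5 ∧ A3 * A3 = A6 ∧
    A6 + A5 - A3 + A0 + 1 = 0 := by decide +kernel

theorem eq_mat : A0 = 1 + (!![-1, 0, 0, 0, 0, 0; 0, -1, 0, 0, 0, 0; -1, 0, -1, 0, 0, 0;
    -1, -1, -1, -1, 0, 0; -1, -1, -1, -1, -1, 0; -1, -1, -1, -1, -1, -1] : Matrix (Fin 6) (Fin 6) ℤ) *
    @id (Matrix (Fin 6) (Fin 6) ℤ) (cartanMat chevE6)ᵀ := by decide +kernel

/-- The polynomial of the torus. -/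
noncomputable def poly : ℤ[X] := X ^ 6 + X ^ 5 - X ^ 3 + X + 1

theorem natDegree_poly : poly.natDegree = 6 := by
  rw [poly]; compute_degree!

theorem monic_poly : poly.Monic := by
  rw [poly]; monicity!

theorem aeval_poly : aeval A0 poly = 0 := by
  obtain ⟨h2, h3, h5, h6, h⟩ := pow_mats
  have e3 : A0 ^ 3 = A3 := by rw [← h3, ← h2, pow_succ', sq]
  have e5 : A0 ^ 5 = A5 := by rw [← h5, ← e3, ← h2, ← sq, ← pow_add]
  have e6 : A0 ^ 6 = A6 := by rw [← h6, ← e3, ← pow_add]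
  simp only [poly, map_add, map_sub, map_pow, aeval_X, map_one, e3, e5, e6]
  exact h

theorem lattice : LatticeData chevE6 DataE6.co (repWord chevE6 reps 20) poly
    (!![-1, 0, 0, 0, 0, 0; 0, -1, 0, 0, 0, 0; -1, 0, -1, 0, 0, 0; -1, -1, -1, -1, 0, 0;
      -1, -1, -1, -1, -1, 0; -1, -1, -1, -1, -1, -1] : Matrix (Fin 6) (Fin 6) ℤ)
    (!![-1, 0, 0, 0, 0, 0; 0, -1, 0, 0, 0, 0; 1, 0, -1, 0, 0, 0; 0, 1, 1, -1, 0, 0;
      0, 0, 0, 1, -1, 0; 0, 0, 0, 0, 1, -1] : Matrix (Fin 6) (Fin 6) ℤ)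
    ⟨2, by decide +kernel⟩ where
  eq := by
    rw [word_mat]
    exact eq_mat
  inv := by decide +kernel
  monic := monic_poly
  degree := natDegree_poly.trans (by decide +kernel)
  pos := by decide +kernel
  root := by rw [word_mat]; exact aeval_poly
  cyclic := by
    rw [word_mat]
    exact Matrix.isUnit_det_of_right_inverse
      (B := (!![1, 0, -1, 1, -2, 2; 0, 1, 0, -1, 0, 1; 0, -1, 0, 0, 1, -1; -1, 0, 0, 0, 1, -1;
        0, -1, 0, 1, -1, 1; 1, 1, -1, 0, -1, 2] : Matrix (Fin 6) (Fin 6) ℤ)) (by decide +kernel)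

/-- The torus. -/
theorem main {F : Type u} [Field F] [Finite F] :
    ∃ H : Subgroup ↥(chevE6.group F), IsCyclic ↥H ∧
      Nat.card ↥H = (Nat.card F ^ 4 - Nat.card F ^ 2 + 1) * (Nat.card F ^ 2 + Nat.card F + 1) /
        Nat.gcd 3 (Nat.card F - 1) ∧
      Subgroup.centralizer (H : Set ↥(chevE6.group F)) = H := by
  classical
  have := Fintype.ofFinite F
  obtain ⟨q, hq⟩ : ∃ q, q = Nat.card F := ⟨_, rfl⟩
  rw [← hq]
  have hq2 : 2 ≤ q := hq ▸ Finite.one_lt_card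
  obtain ⟨r, hr, hr12, hrd, ho⟩ := exists_twelve hq2
  have : Fact r.Prime := ⟨hr⟩
  have hord := order_E6 (F := F)
  rw [← hq] at hord
  have hg3 : Nat.gcd 3 (q - 1) ∣ 3 := Nat.gcd_dvd_left _ _
  have hg0 : Nat.gcd 3 (q - 1) ≠ 0 := (Nat.gcd_pos_of_pos_left _ (by norm_num)).ne'
  have hrG : r ∣ Nat.card ↥(chevE6.group F) := by
    refine (Nat.Coprime.dvd_mul_left ?_).1 (hord ▸ (hrd.mul_left _).mul_left _)
    refine (Nat.coprime_primes hr Nat.prime_three).2 (by omega) |>.coprime_dvd_right hg3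
  have : Finite ↥(chevE6.group F) := inferInstance
  obtain ⟨h, hh⟩ := exists_prime_orderOf_dvd_card' r hrG
  -- the big field
  obtain ⟨p, hp⟩ := CharP.exists F
  obtain ⟨f, hpp, hf⟩ := FiniteField.card F p
  have : Fact p.Prime := ⟨hpp⟩
  have hqf : q = p ^ (f : ℕ) := by rw [hq, Nat.card_eq_fintype_card, hf]
  let K := FiniteField.Extension F p 12
  let ι : F →+* K := algebraMap F K
  have : CharP K p := charP_of_injective_ringHom ι.injective p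
  let σ : K →+* K := iterateFrobenius K p f
  have hσ : ∀ x, σ x = x ^ q := fun x => by rw [hqf]; exact iterateFrobenius_def p f x
  have hσι : σ.comp ι = ι := RingHom.ext fun x => by
    rw [RingHom.comp_apply, hσ, ← map_pow, hq, Nat.card_eq_fintype_card, FiniteField.pow_card]
  have hfixF : ∀ t : K, σ t = t → ∃ u, ι u = t := fun t ht => by
    refine G2Singer.exists_fixed_preimage ι ?_
    rw [← hq, ← hσ, ht]
  have hK : Nat.card K = q ^ 12 := by rw [FiniteField.natCard_extension, hq]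
  obtain ⟨idx, hidx, hidr⟩ := exists_index hr (Q := q ^ 12) (N := 36)
    (a := Nat.card ↥(chevE6.group K)) (b := Nat.card ↥(chevE6.diagonalSubgroup K))
    (g := Nat.gcd 3 (q ^ 12 - 1)) (ds := [2, 5, 6, 8, 9, 12])
    (le_trans hq2 (Nat.le_self_pow (by norm_num) q)) hrd
    (Nat.gcd_pos_of_pos_left _ (by norm_num)).ne'
    (fun d hd => by simp only [List.mem_cons, List.not_mem_nil, or_false] at hd; omega)
    (by have h := order_E6 (F := K); rw [hK] at h; rw [h]; simp [mul_assoc])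
    (by
      have h := card_diag_E6 (F := K); rw [hK] at h
      rw [h, show chevE6.rank = 6 by decide +kernel]; rfl)
  have hF := DataE6.facts
  obtain ⟨P, hP, hMm, hMa, hdiag⟩ := exists_frame DataE6.chk_arrays DataE6.chk_chain hF cert_ok
    good_E6.comm ι σ hσ hσι hr12 ho hidx hidr h hh
  obtain ⟨t, ht⟩ : ∃ t, q = t + 1 := ⟨q - 1, by omega⟩
  obtain ⟨N, hN⟩ : ∃ N, N = (q ^ 4 - q ^ 2 + 1) * (q ^ 2 + q + 1) := ⟨_, rfl⟩
  have hq42 : q ^ 2 ≤ q ^ 4 := Nat.pow_le_pow_right (by omega) (by norm_num)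
  have hNz : (N : ℤ) = poly.eval (q : ℤ) := by
    rw [hN, poly]
    simp only [eval_add, eval_sub, eval_pow, eval_X, eval_one]
    push_cast [Nat.cast_sub hq42]
    ring
  have hNpos : 0 < N := by rw [hN]; positivity
  have hNg : Nat.gcd N (q - 1) = Nat.gcd 3 (q - 1) := by
    have e : N = 3 + t * (t ^ 5 + 7 * t ^ 4 + 20 * t ^ 3 + 29 * t ^ 2 + 22 * t + 9) := by
      zify
      rw [hNz, poly]
      simp only [eval_add, eval_sub, eval_pow, eval_X, eval_one]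
      rw [ht]
      push_cast
      ring
    rw [show q - 1 = t by omega, e, Nat.gcd_comm, Nat.gcd_add_mul_left_right, Nat.gcd_comm]
  have hNK : (poly.eval (q : ℤ)).natAbs ∣ Nat.card K - 1 := by
    rw [← hNz, Int.natAbs_natCast, hK, ← Int.natCast_dvd_natCast, Nat.cast_sub (Nat.one_le_pow _ _ (by omega)),
      hNz, poly]
    simp only [eval_add, eval_sub, eval_pow, eval_X, eval_one]
    exact ⟨((q : ℤ) - 1) * ((q : ℤ) ^ 3 + 1) * ((q : ℤ) ^ 2 + 1), by push_cast; ring⟩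
  obtain ⟨H, hcyc, hcard, hcent⟩ := exists_cyclic_frame hF (hasNbr_of_mem (by simp)) lattice
    good_E6.comm good_E6.comm torus ι σ hq2 hσ hσι hfixF (by rw [← hNz]; exact_mod_cast hNpos) hNK
    hP hMm hMa h hdiag
  refine ⟨H, hcyc, ?_, hcent⟩
  rw [hcard, ← hNz, Int.natAbs_natCast, hNg, ← hN]

end CfsgLib.Known.ChevSinger.AdjE6
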