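import Cfsg.Agent.Lib.Known.ChevSinger.Adjoint.E7Arith

/-!
# The residues over the field of two elements

Modulo 117 the residues are not distinct, but with the Cartan form they still separate the Weyl group.
-/

set_option autoImplicit false
set_option maxRecDepth 100000

namespace CfsgLib.Known.ChevSinger.AdjE7

open Cfsg.Lie CfsgLib.Chev CfsgLib.Chev.Table Matrix

/-- The scalar product of two roots. -/
def ip (s t : ℕ) : ℤ :=
  (fun j : Fin 7 => DataE7.tab.co s j.val) ⬝ᵥ C7ᵀ *ᵥ fun j : Fin 7 => DataE7.tab.co t j.val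

/-- The fundamental roots with a residue of their own. -/
def uniq : List ℕ := [2, 3, 5, 6]

theorem chk_uniq : (uniq.all fun i => allBelow 126 fun t =>
    !decide ((valE 2 t - valE 2 (DataE7.tab.smp i)) % 117 = 0) || Nat.beq t (DataE7.tab.smp i)) = true := by
  decide +kernel

theorem chk_others : (allBelow 7 fun i => allBelow 126 fun t =>
    !decide ((valE 2 t - valE 2 (DataE7.tab.smp i)) % 117 = 0) || Nat.beq t (DataE7.tab.smp i) ||
      uniq.any fun j => !decide (ip t (DataE7.tab.smp j) = ip (DataE7.tab.smp i) (DataE7.tab.smp j))) =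
    true := by decide +kernel

/-- Only the identity preserves the residues modulo 117. -/
theorem stab_two (l : List (Fin chevE7.rank))
    (h : ∀ s, (117 : ℤ) ∣ valE 2 (sW chevE7 l s).val - valE 2 s.val) : sW chevE7 l = 1 := by
  have hF := DataE7.facts
  have hA := DataE7.chk_arrays
  have hrank : chevE7.rank = 7 := by decide +kernel
  have hroots : chevE7.nroots = 126 := by decide +kernel
  have hsimp : ∀ i : Fin chevE7.rank, (hF.simpleFin i).val = DataE7.tab.smp i.val := fun i =>
    simple_eq hA i.isLt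
  set T : Fin chevE7.rank → Fin chevE7.nroots := fun i => sW chevE7 l (hF.simpleFin i) with hT
  have hmod : ∀ i : Fin chevE7.rank,
      (valE 2 (T i).val - valE 2 (DataE7.tab.smp i.val)) % 117 = 0 := fun i => by
    rw [← hsimp]
    exact Int.emod_eq_zero_of_dvd (h _)
  have hip : ∀ i j : Fin chevE7.rank,
      ip (T i).val (T j).val = ip (DataE7.tab.smp i.val) (DataE7.tab.smp j.val) := by
    intro i j
    rw [← hsimp, ← hsimp, ip, ip, ← cartan_mat]
    show coV chevE7 DataE7.co (T i).val ⬝ᵥ (cartanMat chevE7)ᵀ *ᵥ coV chevE7 DataE7.co (T j).val = _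
    have key : ∀ x y : Fin chevE7.rank → ℤ,
        (wM chevE7 l *ᵥ x) ⬝ᵥ (cartanMat chevE7)ᵀ *ᵥ (wM chevE7 l *ᵥ y) =
          x ⬝ᵥ (cartanMat chevE7)ᵀ *ᵥ y := fun x y => by
      rw [← Matrix.vecMul_transpose, ← Matrix.dotProduct_mulVec, Matrix.mulVec_mulVec,
        Matrix.mulVec_mulVec, wM_form form_cartan l]
    rw [hT, coV_sW hF, coV_sW hF]
    exact key _ _
  have hu : ∀ i : Fin chevE7.rank, i.val ∈ uniq → (T i).val = DataE7.tab.smp i.val := by
    intro i hi
    have h1 := allBelow_spec (List.all_eq_true.1 chk_uniq _ hi) (T i).val (hroots ▸ (T i).isLt)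
    simpa [hmod i] using h1
  have hall : ∀ i : Fin chevE7.rank, T i = hF.simpleFin i := by
    intro i
    refine Fin.ext ?_
    rw [hsimp]
    have h1 := allBelow_spec (allBelow_spec chk_others i.val (hrank ▸ i.isLt)) (T i).val
      (hroots ▸ (T i).isLt)
    simp only [hmod i, decide_true, Bool.not_true, Bool.false_or, Bool.or_eq_true, List.any_eq_true,
      Bool.not_eq_true', decide_eq_false_iff_not] at h1
    rcases h1 with h1 | ⟨j, hj, hne⟩
    · exact Nat.eq_of_beq_eq_true h1
    · have hj7 : j < chevE7.rank := by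
        rw [hrank]; simp only [uniq, List.mem_cons, List.not_mem_nil, or_false] at hj; omega
      exact absurd (hu ⟨j, hj7⟩ hj ▸ hip i ⟨j, hj7⟩) hne
  refine (sW_ext hF fun i => ?_).trans (sW_nil (D := chevE7))
  rw [sW_nil, Equiv.Perm.one_apply]
  exact hall i

end CfsgLib.Known.ChevSinger.AdjE7
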