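import Cfsg.Agent.Lib.Known.ChevSinger.Adjoint.Steinberg
import Cfsg.Agent.Lib.Known.ChevLift.Embed

/-!
# Lang frames pass to a larger adjoint group
-/

set_option autoImplicit false
set_option linter.unusedSectionVars false

namespace CfsgLib.Known.ChevSinger

open Cfsg.Lie CfsgLib.Chev CfsgLib.Chev.Lift Matrix

universe v

variable {D D' : ChevalleyDatum} {co co' : ℕ → ℕ → ℤ} {K : Type v} [Field K]

theorem theta_stNG (hF : Facts D co) {φ : D.SteinbergGroup K →* GL D.Idx K} (hφ : IsTheta D φ)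
    {r : ℕ} (hr : r < D.nroots) (c : K) : φ (stNG D r c) = nU D r c := by
  simp only [stNG, map_mul, hφ r _ hr, hφ _ _ (hF.neg_lt hr), nU]

/-- A Lang frame of a Weyl word passes to a larger group. -/
theorem exists_embedded_frame (hF : Facts D co) (hN : HasNbr D) (hC : CommF.{v} D)
    {Ad : Matrix (Fin D.rank) (Fin D.rank) ℤ} {m : ℕ} (hT' : TorusFacts.{v} D Ad m)
    (hU : UnitChains D) (hF' : Facts D' co') (hN' : HasNbr D') (hC' : CommF.{v} D')
    (hU' : UnitChains D') {ι : ℕ → ℕ} (hE : Lift.Embeds D D' ι) (σ : K →+* K)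
    {P : GL D.Idx K} (hP : P ∈ D.group K) {l : List (Fin D.rank)}
    (hMm : P * (extG D σ P)⁻¹ ∈ D.monomialSubgroup K)
    (hMa : PermAct (P * (extG D σ P)⁻¹) (sW D l)) :
    ∃ P' ∈ D'.group K, P' * (extG D' σ P')⁻¹ ∈ D'.monomialSubgroup K ∧
      PermAct (P' * (extG D' σ P')⁻¹) (sW D' (l.map (Fin.castLE hE.1))) := by
  classical
  obtain ⟨g, hg⟩ := Lift.exists_embed (K := K) hF hU hF' hU' hE
  obtain ⟨θ, hθs, -, hθ⟩ := hF.exists_surj hC hN (K := K)
  obtain ⟨θ', -, -, hθ'⟩ := hF'.exists_surj hC' hN' (K := K)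
  set φ := (D.group K).subtype.comp θ with hφdef
  have hφ : IsTheta D φ := hF.isTheta_subtype hθ
  set ψ := (D'.group K).subtype.comp θ' with hψdef
  have hψ : IsTheta D' ψ := hF'.isTheta_subtype hθ'
  obtain ⟨Pt, hPt'⟩ := hθs ⟨P, hP⟩
  have hPt : φ Pt = P := congrArg Subtype.val hPt'
  set Mt := Pt * (stMap D σ Pt)⁻¹ with hMt
  have hφM : φ Mt = P * (extG D σ P)⁻¹ := by
    rw [hMt, map_mul, map_inv, map_stMap hF σ hφ hφ, hPt]
  -- the diagonal part
  set n := ((l.map fun i => stNG D (D.simple i.val) (1 : K)).prod) with hn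
  have hφn : φ n = nW D K l := by
    rw [hn, map_list_prod, List.map_map, nW]
    exact congrArg List.prod (List.map_congr_left fun i _ => theta_stNG hF hφ (hF.simple_lt' i.isLt) 1)
  have hdiag : (nW D K l)⁻¹ * (P * (extG D σ P)⁻¹) ∈ D.diagonalSubgroup K := by
    refine hF.mem_diagonal_of_permAct
      (Subgroup.mul_mem _ (Subgroup.inv_mem _ (hF.nW_mem l)) hMm) ?_
    obtain ⟨τ, hτ⟩ := hF.exists_permAct (Subgroup.inv_mem _ (hF.nW_mem (F := K) l))
    have h1 := hF.permAct_mul hτ hMa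
    have h2 := hF.permAct_mul hτ (hF.permAct_nW (F := K) l)
    rw [inv_mul_cancel, ← hF.hT_one] at h2
    rwa [hF.permAct_unique h2 (hF.permAct_dU (hF.isWeight_hT fun _ => (1 : Kˣ)))] at h1
  obtain ⟨c0, hc0⟩ := hF.mem_diagonal_iff.1 hdiag
  obtain ⟨f, hf, -⟩ := hF.st_torus_hom hN hφ
  have hker : φ ((stT D fun i => c0 i.val)⁻¹ * (n⁻¹ * Mt)) = 1 := by
    rw [map_mul, map_inv, hF.stT_map hN hφ, map_mul, map_inv, hφn, hφM, hc0, inv_mul_eq_one]
    refine hT_ext fun s _ => Finset.prod_congr rfl fun i hi => ?_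
    simp [Finset.mem_range.1 hi]
  obtain ⟨-, k, hk, -⟩ := ker_stT hF hN hC hT' hφ hker
  have hMt' : Mt = n * stT D ((fun i => c0 i.val) * k) := by
    rw [← hf, map_mul, hf, hf, ← hk]; group
  -- the image
  have hnat : ∀ x, g (stMap D σ x) = stMap D' σ (g x) := by
    intro x
    refine DFunLike.congr_fun (?_ : g.comp (stMap D σ) = (stMap D' σ).comp g) x
    refine PresentedGroup.ext fun ⟨r, t⟩ => ?_
    have e : (PresentedGroup.of (r, t) : D.SteinbergGroup K) = D.stGen K r.val t := by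
      simp [ChevalleyDatum.stGen, ChevalleyDatum.stX, PresentedGroup.of]
    rw [e, MonoidHom.comp_apply, MonoidHom.comp_apply, stMap_gen, hg _ r.isLt, hg _ r.isLt, stMap_gen]
  obtain ⟨hle, hs, hι, -⟩ := hE
  have hgN : ∀ r < D.nroots, ∀ c : K, g (stNG D r c) = stNG D' (ι r) c := fun r hr c => by
    simp only [stNG, map_mul, hg _ hr, hg _ (hF.neg_lt hr), (hι r hr).2]
  set P' := ψ (g Pt) with hP'
  have hMi : P' * (extG D' σ P')⁻¹ = ψ (g Mt) := by
    rw [hMt, map_mul, map_inv, hnat, map_mul, map_inv, map_stMap hF' σ hψ hψ]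
  have hgn : ψ (g n) = nW D' K (l.map (Fin.castLE hle)) := by
    rw [hn, map_list_prod, map_list_prod, List.map_map, List.map_map, nW, List.map_map]
    refine congrArg List.prod (List.map_congr_left fun i _ => ?_)
    show ψ (g (stNG D (D.simple i.val) 1)) = nU D' (D'.simple i.val) 1
    rw [hgN _ (hF.simple_lt' i.isLt), theta_stNG hF' hψ (hι _ (hF.simple_lt' i.isLt)).1, hs i.val i.isLt]
  have hgt : ∀ c : Fin D.rank → Kˣ, ψ (g (stT D c)) ∈ D'.diagonalSubgroup K := by
    intro c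
    rw [stT, map_list_prod, map_list_prod, List.map_map, List.map_map]
    refine Subgroup.list_prod_mem _ fun x hx => ?_
    obtain ⟨i, -, rfl⟩ := List.mem_map.1 hx
    have hr := hF.simple_lt' i.isLt
    show ψ (g (stHG D (D.simple i.val) (c i : K))) ∈ _
    rw [stHG, map_mul, hgN _ hr, hgN _ hr, map_mul, theta_stNG hF' hψ (hι _ hr).1,
      theta_stNG hF' hψ (hι _ hr).1]
    exact hF'.hU_mem_diagonal (hι _ hr).1 (Units.ne_zero _)
  refine ⟨P', (θ' (g Pt)).2, ?_, ?_⟩
  · rw [hMi, hMt', map_mul, map_mul, hgn]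
    exact Subgroup.mul_mem _ (hF'.nW_mem _) (Subgroup.mem_sup_left (hgt _))
  · rw [hMi, hMt', map_mul, map_mul, hgn]
    have := hF'.permAct_mul (hF'.permAct_nW (F := K) (l.map (Fin.castLE hle)))
      (hF'.permAct_diagonal (hgt ((fun i => c0 i.val) * k)))
    rwa [mul_one] at this

end CfsgLib.Known.ChevSinger
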