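import Cfsg.Agent.Lib.Known.ChevSinger.Adjoint.Frame
import Cfsg.Agent.Lib.Chev.Table
import Cfsg.Agent.Lib.Chev.Coxeter

/-!
# A cyclic torus from the residues of its characters

In a Lang frame the characters of a generator of the torus are powers of a root of unity; if none is trivial
and only the identity Weyl element preserves them, the torus is its own centraliser.
-/

set_option autoImplicit false
set_option linter.unusedSectionVars false

namespace CfsgLib.Known.ChevSinger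

open Cfsg.Lie CfsgLib.Chev Polynomial Matrix

universe u v

variable {D : ChevalleyDatum} {co : ℕ → ℕ → ℤ}

/-- A self-centralising cyclic subgroup from a frame and residues. -/
theorem exists_cyclic_stab (hF : Facts D co) (hN : HasNbr D)
    {Ad : Matrix (Fin D.rank) (Fin D.rank) ℤ} {m : ℕ} {l₀ : List (Fin D.rank)} {Pp : ℤ[X]}
    {R Ri : Matrix (Fin D.rank) (Fin D.rank) ℤ} {α : Fin D.nroots}
    (hD : LatticeData D co l₀ Pp R Ri α) {F : Type u} [Field F] {K : Type v} [Field K] [Finite K]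
    (hCF : CommF.{u} D) (hC : CommF.{v} D) (hT' : TorusFacts.{v} D Ad m)
    (ι : F →+* K) (σ : K →+* K) {q : ℕ} (hq : 2 ≤ q) (hσ : ∀ x, σ x = x ^ q) (hσι : σ.comp ι = ι)
    (hfixF : ∀ t : K, σ t = t → ∃ u, ι u = t)
    (hN0 : 0 < Pp.eval (q : ℤ)) (hNK : (Pp.eval (q : ℤ)).natAbs ∣ Nat.card K - 1)
    {P : GL D.Idx K} (hP : P ∈ D.group K)
    (hMmono : P * (extG D σ P)⁻¹ ∈ D.monomialSubgroup K)
    (hMact : PermAct (P * (extG D σ P)⁻¹) (sW D l₀))
    {n : ℕ} (hn : n = (Pp.eval (q : ℤ)).natAbs / Nat.gcd (Pp.eval (q : ℤ)).natAbs (q - 1))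
    (val : Fin D.nroots → ℤ)
    (hval : ∀ s : Fin D.nroots, ∃ z : Fin D.rank → ℤ,
      coV D co s.val = orbitMat (wM D l₀) (coV D co α.val) *ᵥ z ∧
        val s = ∑ i, z i * (q : ℤ) ^ (i : ℕ))
    (hne : ∀ s, ¬ (n : ℤ) ∣ val s)
    (hstab : ∀ l : List (Fin D.rank), (∀ s, (n : ℤ) ∣ val (sW D l s) - val s) → sW D l = 1) :
    ∃ H : Subgroup ↥(D.group F), IsCyclic ↥H ∧ Nat.card ↥H = n ∧
      Subgroup.centralizer (H : Set ↥(D.group F)) = H := by
  classical
  obtain ⟨h, c, b, hb, hcj, hchi⟩ :=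
    exists_point hF hN hD hCF hC hT' ι σ hq hσ hσι hfixF hN0 hNK hP hMmono hMact
  rw [← hn] at hb
  have hchi' : ∀ s : Fin D.nroots, chiT D (extC D c) s.val = b ^ val s := fun s => by
    obtain ⟨z, hz, hv⟩ := hval s
    rw [hchi s z hz, hv]
  have hreg : ∀ s < D.nroots, chiT D (extC D c) s ≠ 1 := fun s hs h1 => by
    rw [hchi' ⟨s, hs⟩, ← orderOf_dvd_iff_zpow_eq_one, hb] at h1
    exact hne _ h1
  refine Exists.imp (fun H hH => ⟨hH.1, hH.2.1.trans hn.symm, hH.2.2⟩)
    (exists_cyclic_frame hF hN hD hCF hC hT' ι σ hq hσ hσι hfixF hN0 hNK hP hMmono hMact h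
      fun x hx => ?_)
  set X := P * extG D ι (x : GL D.Idx F) * P⁻¹ with hX
  have hXG : X ∈ D.group K :=
    Subgroup.mul_mem _ (Subgroup.mul_mem _ hP (extG_mem_group ι hF x.2)) (Subgroup.inv_mem _ hP)
  have hcomm : hT D (extC D c) * X = X * hT D (extC D c) := by
    have h1 : (h : GL D.Idx F) * x = x * h :=
      congrArg Subtype.val (Subgroup.mem_centralizer_singleton_iff.1 hx).symm
    rw [← hcj, hX]
    calc _ = P * extG D ι ((h : GL D.Idx F) * x) * P⁻¹ := by rw [map_mul]; group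
      _ = _ := by rw [h1, map_mul]; group
  obtain ⟨l, hl, hlm⟩ := exists_intertwine hF hC hXG hcomm
  obtain ⟨hXm, hXa⟩ := hlm hreg hreg
  refine hF.mem_diagonal_iff.1 (hF.mem_diagonal_of_permAct hXm ?_)
  rw [← hstab l fun s => ?_]
  · exact hXa
  · rw [← hb, orderOf_dvd_iff_zpow_eq_one, _root_.zpow_sub, ← hchi', ← hchi', ← hl s, mul_inv_cancel]

end CfsgLib.Known.ChevSinger
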