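import Cfsg.Agent.Lib.Known.ChevSinger.Torus
import Cfsg.Agent.Lib.Known.ChevSinger.Weyl

/-!
# A Lang step in a product of three commuting rank one subgroups

If a Weyl element `π` permutes three orthogonal roots cyclically, a Lang frame of `π` is moved onto one of
`s_b π`.
-/

set_option autoImplicit false
set_option linter.unusedSectionVars false

namespace CfsgLib.Known.ChevSinger

open Cfsg.Lie CfsgLib.Chev

universe v

variable {D : ChevalleyDatum} {co : ℕ → ℕ → ℤ} {K : Type v} [Field K]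

theorem permAct_nU (hF : Facts D co) (y : List (Fin D.rank)) (j : Fin D.rank) {u : K} (hu : u ≠ 0) :
    nU D (sW D y (hF.simpleFin j)).val u ∈ D.monomialSubgroup K ∧
      PermAct (nU D (sW D y (hF.simpleFin j)).val u) (sW D (y ++ [j] ++ y.reverse)) := by
  obtain ⟨e, he, hc⟩ := hF.nW_conj_nU (F := K) y (hF.simpleFin j)
  have hee : (e : K) * ((e : K) * u) = u := by rcases he with rfl | rfl <;> simp
  have h := hc ((e : K) * u)
  rw [hee] at h
  have hp := hF.simple_lt' j.isLt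
  have hne : (e : K) * u ≠ 0 := mul_ne_zero (by rcases he with rfl | rfl <;> simp) hu
  have e1 : nU D (hF.simpleFin j).val ((e : K) * u) = hU D (D.simple j.val) ((e : K) * u) * nS D K j := by
    show nU D (D.simple j.val) _ = _
    rw [hU, ← hF.nU_inv hp, nS]; group
  have hd := hF.hU_mem_diagonal hp hne
  rw [← h, e1]
  refine ⟨Subgroup.mul_mem _ (Subgroup.mul_mem _ (hF.nW_mem y)
    (Subgroup.mul_mem _ (Subgroup.mem_sup_left hd) (hF.nS_mem j))) (Subgroup.inv_mem _ (hF.nW_mem y)), ?_⟩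
  have hinv : PermAct (nW D K y)⁻¹ (sW D y.reverse) := by
    obtain ⟨τ, hτ⟩ := hF.exists_permAct (Subgroup.inv_mem _ (hF.nW_mem (F := K) y))
    have h1 := hF.permAct_mul hτ (hF.permAct_nW (F := K) y)
    rw [inv_mul_cancel, ← hF.hT_one] at h1
    have h2 := hF.permAct_unique h1 (hF.permAct_dU (hF.isWeight_hT fun _ => (1 : Kˣ)))
    rw [hF.sW_reverse, ← mul_eq_one_iff_eq_inv.1 h2]
    exact hτ
  have h3 := hF.permAct_mul (hF.permAct_mul (hF.permAct_nW (F := K) y)
    (hF.permAct_mul (hF.permAct_diagonal hd) (hF.permAct_nS (F := K) j))) hinv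
  rw [one_mul] at h3
  simpa [sW_append, sW_cons, sW_nil, mul_assoc] using h3

/-- The coefficient of a monomial element on a negative root is the inverse of the one on the root. -/
theorem exists_coeff (hF : Facts D co) {g : GL D.Idx K} (hg : g ∈ D.monomialSubgroup K)
    {π : Equiv.Perm (Fin D.nroots)} (hπ : PermAct g π) (s : Fin D.nroots) :
    π (hF.negFin s) = hF.negFin (π s) ∧ ∃ k : K, k ≠ 0 ∧
      (∀ t, g * xU D s.val t * g⁻¹ = xU D (π s).val (k * t)) ∧
      (∀ t, g * xU D (D.neg s.val) t * g⁻¹ = xU D (D.neg (π s).val) (k⁻¹ * t)) := by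
  obtain ⟨l, h, hh, rfl⟩ := hF.exists_nW hg
  have hσ := hF.permAct_mul (hF.permAct_nW (F := K) l) (hF.permAct_diagonal hh)
  rw [mul_one] at hσ
  obtain rfl := hF.permAct_unique hπ hσ
  refine ⟨hF.sW_neg l s, ?_⟩
  obtain ⟨c, rfl⟩ := hF.mem_diagonal_iff.1 hh
  -- the word alone
  obtain ⟨e, he, he'⟩ : ∃ e : K, (e = 1 ∨ e = -1) ∧ (∀ t,
      nW D K l * xU D s.val t * (nW D K l)⁻¹ = xU D (sW D l s).val (e * t)) ∧ ∀ t,
      nW D K l * xU D (D.neg s.val) t * (nW D K l)⁻¹ = xU D (D.neg (sW D l s).val) (e * t) := by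
    clear hπ hσ hg
    induction l with
    | nil => exact ⟨1, Or.inl rfl, fun t => by simp [nW_nil, sW_nil], fun t => by simp [nW_nil, sW_nil]⟩
    | cons j l ih =>
      obtain ⟨e, he, h1, h2⟩ := ih
      obtain ⟨η, g1, g2, g3⟩ := hF.exists_eta (F := K) j.isLt
      set u := sW D l s with hu
      refine ⟨(η u.val : K) * e, ?_, fun t => ?_, fun t => ?_⟩
      · rcases g1 _ u.isLt with h | h <;> rcases he with rfl | rfl <;> simp [h]
      · have := g3 _ u.isLt (e * t)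
        rw [← mul_inv_eq_iff_eq_mul] at this
        rw [nW_cons, sW_cons, Equiv.Perm.mul_apply, hF.sP_val, mul_assoc (_ : K), ← this, ← h1 t, nS]
        group
      · have := g3 _ (hF.neg_lt u.isLt) (e * t)
        rw [← mul_inv_eq_iff_eq_mul, g2 _ u.isLt, hF.refl_neg j.val j.isLt _ u.isLt] at this
        rw [nW_cons, sW_cons, Equiv.Perm.mul_apply, hF.sP_val, mul_assoc (_ : K), ← this, ← h2 t, nS]
        group
  have hχ : chiT D c (D.neg s.val) = (chiT D c s.val)⁻¹ := by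
    refine Additive.ofMul.injective ?_
    rw [ofMul_inv, ← torHom_coV hF c (hF.neg_lt s.isLt), ← torHom_coV hF c s.isLt, coV_neg hF s.isLt,
      map_neg]
  have hee : e⁻¹ = e := by rcases he with rfl | rfl <;> simp
  refine ⟨e * (chiT D c s.val : K), mul_ne_zero (by rcases he with rfl | rfl <;> simp) (Units.ne_zero _),
    fun t => ?_, fun t => ?_⟩
  · rw [show nW D K l * hT D c * xU D s.val t * (nW D K l * hT D c)⁻¹ =
      nW D K l * (hT D c * xU D s.val t * (hT D c)⁻¹) * (nW D K l)⁻¹ by group,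
      hF.hT_conj_xU c s.isLt, he'.1, mul_assoc]
    rfl
  · rw [show nW D K l * hT D c * xU D (D.neg s.val) t * (nW D K l * hT D c)⁻¹ =
      nW D K l * (hT D c * xU D (D.neg s.val) t * (hT D c)⁻¹) * (nW D K l)⁻¹ by group,
      hF.hT_conj_xU c (hF.neg_lt s.isLt), he'.2, mul_inv, hee, ← Units.val_inv_eq_inv_val, ← hχ,
      mul_assoc]
    rfl

/-- An element with `u ^ (Q - 1) = a`. -/
theorem exists_root [Finite K] {Q : ℕ} (hQ : 2 ≤ Q) (hK : Nat.card K = Q ^ 4) {a : K}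
    (ha : a ^ (1 + Q + Q ^ 2 + Q ^ 3) = 1) : ∃ u : K, u ≠ 0 ∧ u ^ (Q - 1) = a := by
  classical
  obtain ⟨w, hw⟩ := IsCyclic.exists_generator (α := Kˣ)
  have hwo : orderOf w = (Q - 1) * (1 + Q + Q ^ 2 + Q ^ 3) := by
    have := Fintype.ofFinite K
    rw [orderOf_eq_card_of_forall_mem_zpowers hw, Nat.card_eq_fintype_card, Fintype.card_units,
      ← Nat.card_eq_fintype_card, hK]
    obtain ⟨t, rfl⟩ : ∃ t, Q = t + 1 := ⟨Q - 1, by omega⟩
    rw [Nat.add_sub_cancel]
    refine Nat.sub_eq_of_eq_add ?_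
    ring
  have ha0 : a ≠ 0 := fun h => by
    rw [h, zero_pow (by omega)] at ha
    exact zero_ne_one ha
  obtain ⟨i, hi⟩ := Subgroup.mem_zpowers_iff.1 (hw (Units.mk0 a ha0))
  have h1 : ((Q - 1 : ℕ) : ℤ) * ((1 + Q + Q ^ 2 + Q ^ 3 : ℕ) : ℤ) ∣
      i * ((1 + Q + Q ^ 2 + Q ^ 3 : ℕ) : ℤ) := by
    rw [← Nat.cast_mul, ← hwo, orderOf_dvd_iff_zpow_eq_one, zpow_mul, hi, zpow_natCast]
    exact Units.ext (by simpa using ha)
  obtain ⟨j, rfl⟩ := Int.dvd_of_mul_dvd_mul_right (by positivity) h1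
  refine ⟨((w ^ j : Kˣ) : K), Units.ne_zero _, ?_⟩
  rw [← Units.val_pow_eq_pow_val, ← zpow_natCast, ← zpow_mul, mul_comm, hi, Units.val_mk0]

/-- An element with `x + x ^ Q = -1`. -/
theorem exists_trace [Finite K] {p n : ℕ} [Fact p.Prime] [CharP K p] (hn : 1 ≤ n) {Q : ℕ}
    (hQ : Q = p ^ n) (hK : Nat.card K = Q ^ 4) : ∃ x : K, x + x ^ Q = -1 := by
  classical
  have hp2 := (Fact.out : p.Prime).two_le
  have hQ2 : 2 ≤ Q := hQ ▸ le_trans hp2 (Nat.le_self_pow (by omega) p)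
  obtain ⟨y, hy, hne⟩ : ∃ y : K, y ^ (Q ^ 2) = y ∧ y + y ^ Q ≠ 0 := by
    by_cases h2 : (2 : K) = 0
    · obtain ⟨w, hw⟩ := IsCyclic.exists_generator (α := Kˣ)
      have := Fintype.ofFinite K
      have hwo : orderOf w = Q ^ 4 - 1 := by
        rw [orderOf_eq_card_of_forall_mem_zpowers hw, Nat.card_eq_fintype_card, Fintype.card_units,
          ← Nat.card_eq_fintype_card, hK]
      obtain ⟨t, rfl⟩ : ∃ t, Q = t + 1 := ⟨Q - 1, by omega⟩
      set E := (t + 1) ^ 2 + 1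
      have hE : ((t + 1) ^ 4 - 1) = E * ((t + 1) ^ 2 - 1) := by
        rw [show (t + 1) ^ 4 = ((t + 1) ^ 2) ^ 2 by ring]
        exact Nat.sq_sub_sq ((t + 1) ^ 2) 1 ▸ by simp [E]
      have hyo : orderOf (w ^ E) = (t + 1) ^ 2 - 1 := by
        rw [orderOf_pow_of_dvd (by simp [E]) (by rw [hwo, hE]; exact dvd_mul_right _ _), hwo, hE,
          Nat.mul_div_cancel_left _ (by simp [E])]
      refine ⟨((w ^ E : Kˣ) : K), ?_, fun h => ?_⟩
      · have h1 := pow_orderOf_eq_one (w ^ E)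
        rw [hyo] at h1
        rw [← Units.val_pow_eq_pow_val, show (t + 1) ^ 2 = ((t + 1) ^ 2 - 1) + 1 from
          (Nat.sub_add_cancel (Nat.one_le_pow _ _ (by omega))).symm, pow_succ, h1, one_mul]
      · have hmm : -((w ^ E : Kˣ) : K) = ((w ^ E : Kˣ) : K) := by
          have : ((w ^ E : Kˣ) : K) * 2 = 0 := by rw [h2, mul_zero]
          linear_combination -this
        have h3 : ((w ^ E : Kˣ) : K) ^ (t + 1) = ((w ^ E : Kˣ) : K) := by
          rw [add_comm, add_eq_zero_iff_eq_neg] at h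
          rw [h, hmm]
        have h4 : (w ^ E) ^ t = 1 := by
          refine mul_right_cancel (b := w ^ E) ?_
          rw [one_mul, ← pow_succ]
          exact Units.ext (by rw [Units.val_pow_eq_pow_val]; exact h3)
        have h5 := Nat.le_of_dvd (by omega) (orderOf_dvd_of_pow_eq_one h4)
        rw [hyo] at h5
        have : (t + 1) ^ 2 = t * t + 2 * t + 1 := by ring
        have ht : 1 ≤ t := by omega
        have h6 : 1 ≤ t * t := Nat.one_le_iff_ne_zero.2 (by positivity)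
        omega
    · exact ⟨1, one_pow _, by rw [one_pow, one_add_one_eq_two]; exact h2⟩
  refine ⟨-y * (y + y ^ Q)⁻¹, ?_⟩
  have hz : (y + y ^ Q) ^ Q = y + y ^ Q := by
    conv_lhs => rw [hQ, add_pow_char_pow]
    rw [← hQ, ← pow_mul, ← sq, hy, add_comm]
  have hneg : (-1 : K) ^ Q = -1 := by rw [hQ]; exact neg_one_pow_char_pow K p n
  rw [mul_pow, inv_pow, hz, neg_pow y Q, hneg]
  field_simp
  ring

theorem commute_xU (hF : Facts D co) (hC : CommF.{v} D) {r s : Fin D.nroots} (hne : s ≠ r) (hneg : s ≠ hF.negFin r)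
    (hterm : D.commTerms r.val s.val = []) (t u : K) :
    Commute (xU D s.val u) (xU D r.val t) := by
  have h := hF.xU_comm hC r.isLt s.isLt (fun e => hne (Fin.ext e)) (fun e => hneg (Fin.ext e)) t u
  rw [cwR, hterm] at h
  rw [commute_iff_eq]
  simpa [wU] using h

/-- The Lang step. -/
theorem exists_switch (hF : Facts D co) (hC : CommF.{v} D) [Finite K] {p f : ℕ} [Fact p.Prime] [CharP K p] (hf : 1 ≤ f)
    {q : ℕ} (hqf : q = p ^ f) (hK : Nat.card K = q ^ 12) (σ : K →+* K) (hσ : ∀ x, σ x = x ^ q)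
    {P : GL D.Idx K} (hP : P ∈ D.group K) {π : Equiv.Perm (Fin D.nroots)}
    (hMm : P * (extG D σ P)⁻¹ ∈ D.monomialSubgroup K) (hMa : PermAct (P * (extG D σ P)⁻¹) π)
    (y : List (Fin D.rank)) (j : Fin D.rank) {b : Fin D.nroots} (hb : sW D y (hF.simpleFin j) = b)
    (h3 : π (π (π b)) = b)
    (hcomm : ∀ r ∈ [b, hF.negFin b], ∀ s ∈ [π b, hF.negFin (π b), π (π b), hF.negFin (π (π b))],
      s ≠ r ∧ s ≠ hF.negFin r ∧ D.commTerms r.val s.val = []) :
    ∃ W ∈ D.group K, W * (extG D σ W)⁻¹ ∈ D.monomialSubgroup K ∧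
      PermAct (W * (extG D σ W)⁻¹) (sW D (y ++ [j] ++ y.reverse) * π) := by
  classical
  set M := P * (extG D σ P)⁻¹ with hM
  set Φ : GL D.Idx K →* GL D.Idx K := (MulAut.conj M).toMonoidHom.comp (extG D σ) with hΦ
  have hΦapp : ∀ g, Φ g = M * extG D σ g * M⁻¹ := fun g => rfl
  have hnn : hF.negFin (hF.negFin b) = b := Fin.ext (hF.neg_neg b.isLt)
  -- coefficients
  have hcoef : ∀ s : Fin D.nroots, ∃ k : K, k ≠ 0 ∧
      (∀ t, Φ (xU D s.val t) = xU D (π s).val (k * t ^ q)) ∧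
      (∀ t, Φ (xU D (hF.negFin s).val t) = xU D (hF.negFin (π s)).val (k⁻¹ * t ^ q)) := by
    intro s
    obtain ⟨-, k, hk, h1, h2⟩ := exists_coeff hF hMm hMa s
    exact ⟨k, hk, fun t => by rw [hΦapp, extG_xU σ hF s.isLt, hσ, h1],
      fun t => by rw [hΦapp, extG_xU σ hF (hF.negFin s).isLt, hσ]; exact h2 _⟩
  obtain ⟨k₁, hk₁, ha₁, hb₁⟩ := hcoef b
  obtain ⟨k₂, hk₂, ha₂, hb₂⟩ := hcoef (π b)
  obtain ⟨k₃, hk₃, ha₃, hb₃⟩ := hcoef (π (π b))
  rw [h3] at ha₃ hb₃
  set c := k₃ * (k₂ * k₁ ^ q) ^ q with hc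
  set Q := q ^ 3 with hQ
  have hΦ3 : ∀ t, Φ (Φ (Φ (xU D b.val t))) = xU D b.val (c * t ^ Q) := fun t => by
    rw [ha₁, ha₂, ha₃, hc, hQ]; congr 1; ring
  have hΦ3' : ∀ t, Φ (Φ (Φ (xU D (hF.negFin b).val t))) = xU D (hF.negFin b).val (c⁻¹ * t ^ Q) :=
    fun t => by
    rw [hb₁, hb₂, hb₃, hc, hQ]; congr 1
    simp only [mul_inv, mul_pow, ← inv_pow, ← pow_mul]
    ring
  -- `Φ` is the Frobenius map in the frame
  have hΦP : ∀ g, Φ (P * g * P⁻¹) = P * extG D σ g * P⁻¹ := fun g => by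
    rw [hΦapp, hM, map_mul, map_mul, map_inv]; group
  have hiter : ∀ (n : ℕ) g, (⇑Φ)^[n] (P * g * P⁻¹) = P * (⇑(extG D σ))^[n] g * P⁻¹ := by
    intro n
    induction n with
    | zero => intro g; rfl
    | succ n ih => intro g; rw [Function.iterate_succ_apply', ih, hΦP, Function.iterate_succ_apply']
  have hfix : ∀ g : GL D.Idx K, (⇑(extG D σ))^[12] g = g := by
    have e : ∀ (n : ℕ) (g : GL D.Idx K) i j, ((⇑(extG D σ))^[n] g : GL D.Idx K) i j = g i j ^ q ^ n := by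
      intro n
      induction n with
      | zero => intro g i j; simp
      | succ n ih =>
        intro g i j
        rw [Function.iterate_succ_apply']
        show σ (((⇑(extG D σ))^[n] g : GL D.Idx K) i j) = _
        rw [ih, hσ, ← pow_mul, pow_succ]
    intro g
    refine Units.ext (Matrix.ext fun i j => ?_)
    have := Fintype.ofFinite K
    rw [e, ← hK, Nat.card_eq_fintype_card, FiniteField.pow_card]
  have h12 : (⇑Φ)^[12] (xU D b.val 1) = xU D b.val 1 := by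
    conv_lhs => rw [show xU D b.val (1 : K) = P * (P⁻¹ * xU D b.val 1 * P) * P⁻¹ by group]
    rw [hiter, hfix]; group
  have hc1 : c ^ (1 + Q + Q ^ 2 + Q ^ 3) = 1 := by
    rw [show (⇑Φ)^[12] (xU D b.val (1 : K)) = Φ (Φ (Φ (Φ (Φ (Φ (Φ (Φ (Φ (Φ (Φ (Φ (xU D b.val 1))))))))))))
      from rfl, hΦ3, hΦ3, hΦ3, hΦ3] at h12
    have h := hF.xU_left_inj b.isLt h12
    rw [one_pow, mul_one] at h
    calc c ^ (1 + Q + Q ^ 2 + Q ^ 3) = c * (c * (c * c ^ Q) ^ Q) ^ Q := by ring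
      _ = 1 := h
  have hc0 : c ≠ 0 := by positivity
  have hp2 := (Fact.out : p.Prime).two_le
  have hq2 : 2 ≤ q := hqf ▸ le_trans hp2 (Nat.le_self_pow (by omega) p)
  have hQ2 : 2 ≤ Q := le_trans hq2 (Nat.le_self_pow (by norm_num) q)
  have hK' : Nat.card K = Q ^ 4 := by rw [hK, hQ, ← pow_mul]
  -- solve
  obtain ⟨u, hu0, hu⟩ := exists_root hQ2 hK' (a := -c⁻¹) (by
    rw [neg_pow, inv_pow, hc1, inv_one, mul_one]
    rcases Nat.even_or_odd Q with hev | hod
    · have h2 : (2 : K) = 0 := by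
        rw [hQ, Nat.even_pow, hqf, Nat.even_pow] at hev
        rw [← Nat.cast_two, CharP.cast_eq_zero_iff K p]
        exact (Nat.prime_dvd_prime_iff_eq Fact.out Nat.prime_two).2
          (((Fact.out : p.Prime).eq_two_or_odd').resolve_right fun h => Nat.not_odd_iff_even.2 hev.1.1 h) 
      rw [show (-1 : K) = 1 by linear_combination -h2, one_pow]
    · refine Even.neg_one_pow ?_
      simp [Nat.even_add, Nat.even_pow, Nat.not_even_iff_odd.2 hod])
  obtain ⟨x, hx⟩ := exists_trace (K := K) (p := p) (n := 3 * f) (by omega) (Q := Q)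
    (by rw [hQ, hqf, ← pow_mul, mul_comm]) hK'
  set v := x * u⁻¹ with hv
  have hQs : Q - 1 + 1 = Q := by omega
  have hcu : c * u ^ Q = -u := by
    rw [← hQs, pow_succ, hu]; field_simp
  have hv' : v - c⁻¹ * v ^ Q = -u⁻¹ := by
    have e : c⁻¹ * v ^ Q = -(u⁻¹) * x ^ Q := by
      rw [hv, mul_pow, inv_pow]
      field_simp
      linear_combination (x ^ Q) * hcu
    rw [e, hv]
    linear_combination u⁻¹ * hx
  -- the element
  set X := xU D b.val u * xU D (hF.negFin b).val v with hX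
  have key : X * (Φ (Φ (Φ X)))⁻¹ = nU D b.val u := by
    rw [hX, map_mul, map_mul, map_mul, hΦ3, hΦ3', mul_inv_rev, hF.xU_inv b.isLt,
      hF.xU_inv (hF.negFin b).isLt, hcu, _root_.neg_neg]
    calc xU D b.val u * xU D (hF.negFin b).val v *
          (xU D (hF.negFin b).val (-(c⁻¹ * v ^ Q)) * xU D b.val u)
        = xU D b.val u * (xU D (hF.negFin b).val v * xU D (hF.negFin b).val (-(c⁻¹ * v ^ Q))) *
            xU D b.val u := by group
      _ = nU D b.val u := by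
          rw [hF.xU_add (hF.negFin b).isLt, ← sub_eq_add_neg, hv']
          rfl
  have hcom : ∀ Z : GL D.Idx K, (∃ t t', Z = xU D b.val t * xU D (hF.negFin b).val t') →
      Commute Z (Φ X) ∧ Commute Z (Φ (Φ X)) := by
    rintro Z ⟨t, t', rfl⟩
    have one : ∀ s ∈ [π b, hF.negFin (π b), π (π b), hF.negFin (π (π b))], ∀ w,
        Commute (xU D b.val t * xU D (hF.negFin b).val t') (xU D s.val w) := fun s hs w => by
      obtain ⟨a1, a2, a3⟩ := hcomm b (by simp) s hs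
      obtain ⟨b1, b2, b3⟩ := hcomm (hF.negFin b) (by simp) s hs
      exact (commute_xU hF hC a1 a2 a3 t w).symm.mul_left (commute_xU hF hC b1 b2 b3 t' w).symm
    rw [hX, map_mul, map_mul, ha₁, hb₁, ha₂, hb₂]
    exact ⟨(one _ (by simp) _).mul_right (one _ (by simp) _),
      (one _ (by simp) _).mul_right (one _ (by simp) _)⟩
  obtain ⟨c1, c2⟩ := hcom (Φ (Φ (Φ X))) ⟨_, _, by rw [hX, map_mul, map_mul, map_mul, hΦ3, hΦ3']⟩
  set Y := X * Φ X * Φ (Φ X) with hY
  have hYY : Y * (Φ Y)⁻¹ = nU D b.val u := by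
    have e : Φ Y = Φ (Φ (Φ X)) * (Φ X * Φ (Φ X)) := by
      rw [hY, map_mul, map_mul, (c1.mul_right c2).eq]
    rw [e, hY, mul_inv_rev, ← key]
    group
  have hM' : M ∈ D.group K := hF.monomial_le_group hMm
  have hYG : Y ∈ D.group K := by
    have hΦG : ∀ g ∈ D.group K, Φ g ∈ D.group K := fun g hg =>
      Subgroup.mul_mem _ (Subgroup.mul_mem _ hM' (extG_mem_group σ hF hg)) (Subgroup.inv_mem _ hM')
    have hXG : X ∈ D.group K := by
      rw [hX, hF.group_eq]
      exact Subgroup.mul_mem _ (xU_mem_rootClosure b.isLt trivial _)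
        (xU_mem_rootClosure (hF.negFin b).isLt trivial _)
    exact Subgroup.mul_mem _ (Subgroup.mul_mem _ hXG (hΦG _ hXG)) (hΦG _ (hΦG _ hXG))
  refine ⟨Y * P, Subgroup.mul_mem _ hYG hP, ?_⟩
  have e : Y * P * (extG D σ (Y * P))⁻¹ = nU D b.val u * M := by
    rw [← hYY, hΦapp, hM, map_mul]; group
  obtain ⟨n1, n2⟩ := permAct_nU (K := K) hF y j hu0
  rw [hb] at n1 n2
  exact ⟨e ▸ Subgroup.mul_mem _ n1 hMm, e ▸ hF.permAct_mul n2 hMa⟩

end CfsgLib.Known.ChevSinger
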