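import Cfsg.Agent.Lib.Known.ChevSinger.Adjoint.E6
import Cfsg.Agent.Lib.Known.ChevSinger.Adjoint.Embed
import Cfsg.Agent.Lib.Known.ChevSinger.Adjoint.Switch
import Cfsg.Agent.Lib.Known.ChevSinger.Adjoint.Stab
import Cfsg.Agent.Lib.Known.ChevSinger.Adjoint.E7Two
import Cfsg.Agent.Lib.Known.ChevLift.CentreE

/-!
A self-centralising cyclic torus of `E₇(q)` of order `(q⁴ - q² + 1)(q³ + 1) / (2, q - 1)`: the frame of the
Coxeter element of E6 is carried into E7 and moved across three orthogonal roots.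
-/

set_option autoImplicit false
set_option maxRecDepth 20000

namespace CfsgLib.Known.ChevSinger.AdjE7

open Cfsg.Lie CfsgLib.Chev Polynomial Matrix

universe u v

theorem chk_emb : DataE6.tab.chkEmb DataE7.tab iota67 = true := by decide +kernel

theorem embeds : Lift.Embeds chevE6 chevE7 iota67 :=
  Lift.embeds_of_chk DataE6.chk_arrays DataE6.chk_chain DataE7.chk_arrays DataE7.chk_chain chk_emb

theorem wE6_eq : (repWord chevE6 AdjE6.reps 20).map (Fin.castLE embeds.1) = wE6 := by
  refine List.map_injective_iff.2 Fin.val_injective ?_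
  rw [List.map_map]
  decide +kernel

theorem torus : TorusFacts.{v} chevE7 Ad7 2 where
  pos := by norm_num
  left := by rw [cartan_mat]; exact lattice_mats.2.2
  inj L _ c hc := Lift.stT_injective DataE7.facts Lift.laced_E7.{v}.unit DataE8.facts Lift.laced_E8.{v}.unit
    good_E8.comm (hasNbr_of_mem (by simp))
    (Lift.embeds_of_chk DataE7.chk_arrays DataE7.chk_chain DataE8.chk_arrays DataE8.chk_chain
      Lift.chkEmb_E7)
    (M := (!![4, 5, 7, 10, 8, 6, 4, 2; 5, 8, 10, 15, 12, 9, 6, 3; 7, 10, 14, 20, 16, 12, 8, 4;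
      10, 15, 20, 30, 24, 18, 12, 6; 8, 12, 16, 24, 20, 15, 10, 5; 6, 9, 12, 18, 15, 12, 8, 4;
      4, 6, 8, 12, 10, 8, 6, 3; 2, 3, 4, 6, 5, 4, 3, 2] : Matrix (Fin 8) (Fin 8) ℤ))
    (by decide +kernel) hc

/-- The polynomial of the torus. -/
noncomputable def poly : ℤ[X] := X ^ 7 - X ^ 5 + X ^ 4 + X ^ 3 - X ^ 2 + 1

theorem natDegree_poly : poly.natDegree = 7 := by
  rw [poly]; compute_degree!

theorem monic_poly : poly.Monic := by
  rw [poly]; monicity!

theorem aeval_poly : aeval A0 poly = 0 := by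
  obtain ⟨h2, h3, h4, h5, h7, h⟩ := pow_mats
  have e2 : A0 ^ 2 = A2 := by rw [← h2, sq]
  have e3 : A0 ^ 3 = A3 := by rw [← h3, ← e2, ← pow_succ']
  have e4 : A0 ^ 4 = A4 := by rw [← h4, ← e2, ← pow_add]
  have e5 : A0 ^ 5 = A5 := by rw [← h5, ← e2, ← e3, ← pow_add]
  have e7 : A0 ^ 7 = A7 := by rw [← h7, ← e3, ← e4, ← pow_add]
  simp only [poly, map_add, map_sub, map_pow, aeval_X, map_one, e2, e3, e4, e5, e7]
  exact h

theorem lattice : LatticeData chevE7 DataE7.co word poly R7 Ri7 ⟨2, by decide +kernel⟩ where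
  eq := by rw [word_mat, cartan_mat]; exact lattice_mats.1
  inv := lattice_mats.2.1
  monic := monic_poly
  degree := natDegree_poly.trans (by decide +kernel)
  pos := by decide +kernel
  root := by rw [word_mat]; exact aeval_poly
  cyclic := by
    rw [word_mat]
    exact Matrix.isUnit_det_of_right_inverse orbit_inv

theorem coord_spec (s : Fin chevE7.nroots) : coV chevE7 DataE7.co s.val =
    orbitMat (wM chevE7 word) (coV chevE7 DataE7.co 2) *ᵥ fun k => coord s.val k.val := by
  have hF := DataE7.facts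
  have hα : 2 < chevE7.nroots := by decide +kernel
  have hpow : ∀ k : ℕ, wM chevE7 word ^ k *ᵥ coV chevE7 DataE7.co 2 =
      coV chevE7 DataE7.co ((sW chevE7 word ^ k) ⟨2, hα⟩).val := by
    intro k
    induction k with
    | zero => simp
    | succ k ih => rw [pow_succ', ← Matrix.mulVec_mulVec, ih, pow_succ', Equiv.Perm.mul_apply, coV_sW hF]
  funext j
  have h := Table.allBelow_spec (Table.allBelow_spec chk_coords s.val
    ((show chevE7.nroots = 126 by decide +kernel) ▸ s.isLt)) j.val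
    ((show chevE7.rank = 7 by decide +kernel) ▸ j.isLt)
  rw [decide_eq_true_eq] at h
  rw [orbitMat_mulVec, Finset.sum_apply, coV]
  refine h.symm.trans ?_
  rw [← List.sum_toFinset _ List.nodup_range, List.toFinset_range, ← Fin.sum_univ_eq_sum_range]
  refine Finset.sum_congr rfl fun k _ => ?_
  rw [Pi.smul_apply, smul_eq_mul, hpow, coV,
    ← actPow_sW DataE7.chk_arrays DataE7.chk_chain hF]
  rfl

theorem valE_eq (q : ℤ) (s : ℕ) :
    valE q s = ∑ i : Fin 7, coord s i.val * q ^ (i : ℕ) := by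
  rw [valE, Fin.sum_univ_seven]
  simp
  ring

/-- The torus. -/
theorem main {F : Type u} [Field F] [Finite F] :
    ∃ H : Subgroup ↥(chevE7.group F), IsCyclic ↥H ∧
      Nat.card ↥H = (Nat.card F ^ 4 - Nat.card F ^ 2 + 1) * (Nat.card F ^ 3 + 1) /
        Nat.gcd 2 (Nat.card F - 1) ∧
      Subgroup.centralizer (H : Set ↥(chevE7.group F)) = H := by
  classical
  have := Fintype.ofFinite F
  obtain ⟨q, hq⟩ : ∃ q, q = Nat.card F := ⟨_, rfl⟩
  rw [← hq]
  have hq2 : 2 ≤ q := hq ▸ Finite.one_lt_card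
  obtain ⟨r, hr, hr12, hrd, ho⟩ := exists_twelve hq2
  have : Fact r.Prime := ⟨hr⟩
  have hord := order_E6 (F := F)
  rw [← hq] at hord
  have hrG : r ∣ Nat.card ↥(chevE6.group F) := by
    refine (Nat.Coprime.dvd_mul_left ?_).1 (hord ▸ (hrd.mul_left _).mul_left _)
    exact (Nat.coprime_primes hr Nat.prime_three).2 (by omega) |>.coprime_dvd_right (Nat.gcd_dvd_left _ _)
  obtain ⟨h, hh⟩ := exists_prime_orderOf_dvd_card' r hrG
  -- the big field
  obtain ⟨p, hp⟩ := CharP.exists F
  obtain ⟨f, hpp, hf⟩ := FiniteField.card F p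
  have : Fact p.Prime := ⟨hpp⟩
  have hqf : q = p ^ (f : ℕ) := by rw [hq, Nat.card_eq_fintype_card, hf]
  let K := FiniteField.Extension F p 12
  let ι : F →+* K := algebraMap F K
  have : CharP K p := charP_of_injective_ringHom ι.injective p
  let σ : K →+* K := iterateFrobenius K p f
  have hσ : ∀ x, σ x = x ^ q := fun x => by rw [hqf]; exact iterateFrobenius_def p f x
  have hσι : σ.comp ι = ι := RingHom.ext fun x => by
    rw [RingHom.comp_apply, hσ, ← map_pow, hq, Nat.card_eq_fintype_card, FiniteField.pow_card]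
  have hfixF : ∀ t : K, σ t = t → ∃ u, ι u = t := fun t ht => by
    refine G2Singer.exists_fixed_preimage ι ?_
    rw [← hq, ← hσ, ht]
  have hK : Nat.card K = q ^ 12 := by rw [FiniteField.natCard_extension, hq]
  obtain ⟨idx, hidx, hidr⟩ := exists_index hr (Q := q ^ 12) (N := 36)
    (a := Nat.card ↥(chevE6.group K)) (b := Nat.card ↥(chevE6.diagonalSubgroup K))
    (g := Nat.gcd 3 (q ^ 12 - 1)) (ds := [2, 5, 6, 8, 9, 12])
    (le_trans hq2 (Nat.le_self_pow (by norm_num) q)) hrd
    (Nat.gcd_pos_of_pos_left _ (by norm_num)).ne'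
    (fun d hd => by simp only [List.mem_cons, List.not_mem_nil, or_false] at hd; omega)
    (by have h := order_E6 (F := K); rw [hK] at h; rw [h]; simp [mul_assoc])
    (by
      have h := card_diag_E6 (F := K); rw [hK] at h
      rw [h, show chevE6.rank = 6 by decide +kernel]; rfl)
  obtain ⟨P6, hP6, hMm6, hMa6, -⟩ := exists_frame DataE6.chk_arrays DataE6.chk_chain DataE6.facts
    AdjE6.cert_ok good_E6.comm ι σ hσ hσι hr12 ho hidx hidr h hh
  -- into E7
  have hF := DataE7.facts
  obtain ⟨P1, hP1, hMm1, hMa1⟩ := exists_embedded_frame DataE6.facts (hasNbr_of_mem (by simp))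
    good_E6.comm AdjE6.torus Lift.laced_E6.{0}.unit hF (hasNbr_of_mem (by simp)) good_E7.comm
    Lift.laced_E7.{0}.unit embeds σ hP6 hMm6 hMa6
  rw [wE6_eq] at hMa1
  -- across the three roots
  have hA := DataE7.chk_arrays
  have hCh := DataE7.chk_chain
  have hroots : chevE7.nroots = 126 := by decide +kernel
  have hk := chk_b
  simp only [Bool.and_eq_true, List.all_eq_true, Bool.not_eq_true'] at hk
  obtain ⟨⟨hkb, hk3⟩, hkc⟩ := hk
  set b : Fin chevE7.nroots := ⟨bRoot, by decide +kernel⟩ with hb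
  have hb1 : (sW chevE7 wE6 b).val = Table.actW DataE7.tab (wE6.map Fin.val) bRoot :=
    Table.actW_eq hA hCh hF wE6 b
  have hb2 : (sW chevE7 wE6 (sW chevE7 wE6 b)).val =
      Table.actW DataE7.tab (wE6.map Fin.val) (Table.actW DataE7.tab (wE6.map Fin.val) bRoot) := by
    rw [Table.actW_eq hA hCh hF, hb1]
  have hneg : ∀ s : Fin chevE7.nroots, (hF.negFin s).val = DataE7.tab.neg s.val := fun s =>
    Table.neg_eq hA s.isLt
  obtain ⟨W, hW, hMm, hMa⟩ := exists_switch hF good_E7.comm (p := p) (f := (f : ℕ)) f.pos hqf hK σ hσ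
    hP1 hMm1 hMa1 yWord jIdx (b := b)
    (Fin.ext (by
      rw [Table.actW_eq hA hCh hF, show (hF.simpleFin jIdx).val = DataE7.tab.smp jIdx.val from
        Table.simple_eq hA jIdx.isLt]
      exact Nat.eq_of_beq_eq_true hkb))
    (Fin.ext (by rw [Table.actW_eq hA hCh hF, hb2]; exact Nat.eq_of_beq_eq_true hk3))
    (fun x hx s hs => by
      have hxm : x.val ∈ [bRoot, DataE7.tab.neg bRoot] := by
        simp only [List.mem_cons, List.not_mem_nil, or_false] at hx
        rcases hx with rfl | rfl <;> simp [hneg, hb]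
      have hsm : s.val ∈ [(sW chevE7 wE6 b).val, DataE7.tab.neg (sW chevE7 wE6 b).val,
          (sW chevE7 wE6 (sW chevE7 wE6 b)).val,
          DataE7.tab.neg (sW chevE7 wE6 (sW chevE7 wE6 b)).val] := by
        simp only [List.mem_cons, List.not_mem_nil, or_false] at hs
        rcases hs with rfl | rfl | rfl | rfl <;> simp [hneg]
      rw [hb2, hb1] at hsm
      have h1 := hkc _ hxm _ hsm
      refine ⟨fun e => ?_, fun e => ?_, ?_⟩
      · rw [e, Nat.beq_refl] at h1; exact absurd h1.1.1 (by simp)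
      · rw [e, hneg, Nat.beq_refl] at h1; exact absurd h1.1.2 (by simp)
      · refine Lift.commTerms_none hF Lift.laced_E7.{0}.unit x.isLt s.isLt ?_
        rw [Table.tgt_eq hA hCh x.isLt s.isLt, Table.tg_of_eq (Nat.eq_of_beq_eq_true h1.2)])
  -- residues
  have hq42 : q ^ 2 ≤ q ^ 4 := Nat.pow_le_pow_right (by omega) (by norm_num)
  have hNz : ((bigN q : ℕ) : ℤ) = poly.eval (q : ℤ) := by
    rw [bigN, poly]
    simp only [eval_add, eval_sub, eval_pow, eval_X, eval_one]
    push_cast [Nat.cast_sub hq42]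
    ring
  have hNpos : 0 < bigN q := by rw [bigN]; positivity
  have hNg : Nat.gcd (bigN q) (q - 1) = Nat.gcd 2 (q - 1) := by
    obtain ⟨t, ht⟩ : ∃ t, q = t + 1 := ⟨q - 1, by omega⟩
    have e : bigN q = 2 + t * (t ^ 6 + 7 * t ^ 5 + 20 * t ^ 4 + 31 * t ^ 3 + 30 * t ^ 2 + 19 * t + 7) := by
      zify
      rw [hNz, poly]
      simp only [eval_add, eval_sub, eval_pow, eval_X, eval_one]
      rw [ht]
      push_cast
      ring
    rw [show q - 1 = t by omega, e, Nat.gcd_comm, Nat.gcd_add_mul_left_right, Nat.gcd_comm]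
  have hn : smallN q = (poly.eval (q : ℤ)).natAbs / Nat.gcd (poly.eval (q : ℤ)).natAbs (q - 1) := by
    rw [← hNz, Int.natAbs_natCast, hNg]; rfl
  have hNK : (poly.eval (q : ℤ)).natAbs ∣ Nat.card K - 1 := by
    rw [← hNz, Int.natAbs_natCast, hK, ← Int.natCast_dvd_natCast,
      Nat.cast_sub (Nat.one_le_pow _ _ (by omega)), hNz, poly]
    simp only [eval_add, eval_sub, eval_pow, eval_X, eval_one]
    exact ⟨((q : ℤ) ^ 2 + 1) * ((q : ℤ) ^ 3 - 1), by push_cast; ring⟩
  have hrank : chevE7.rank = 7 := by decide +kernel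
  obtain ⟨H, hcyc, hcard, hcent⟩ := exists_cyclic_stab hF (hasNbr_of_mem (by simp)) lattice
    good_E7.comm good_E7.comm torus ι σ hq2 hσ hσι hfixF (by rw [← hNz]; exact_mod_cast hNpos) hNK
    hW hMm hMa hn (fun s => valE q s.val)
    (fun s => ⟨fun k => coord s.val k.val, coord_spec s, valE_eq _ _⟩)
    (fun s => valE_ne hq2 (hroots ▸ s.isLt))
    (fun l hl => by
      rcases Nat.eq_or_lt_of_le hq2 with h2 | h3
      · refine stab_two l fun s => ?_
        have := hl s
        rwa [← h2, show smallN 2 = 117 by decide +kernel] at this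
      · refine Equiv.ext fun s => Fin.ext ?_
        rw [Equiv.Perm.one_apply]
        exact (valE_inj h3 (by have := s.isLt; omega) (by have := (sW chevE7 l s).isLt; omega)
          (hl s)).symm)
  exact ⟨H, hcyc, hcard, hcent⟩

end CfsgLib.Known.ChevSinger.AdjE7
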