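import Cfsg.Agent.Lib.Known.ChevSinger.Adjoint.E7Data

/-!
# The residues of the roots modulo the order of the E7 torus
-/

set_option autoImplicit false
set_option maxRecDepth 100000

namespace CfsgLib.Known.ChevSinger.AdjE7

open Cfsg.Lie CfsgLib.Chev CfsgLib.Chev.Table

/-- The `k`-th coordinate of a root; the index `126` stands for zero. -/
def coord (s k : ℕ) : ℤ := (coords.getD s []).getD k 0

/-- The exponent of a root at `q`. -/
def valE (q : ℤ) (s : ℕ) : ℤ :=
  coord s 0 + q * (coord s 1 + q * (coord s 2 + q * (coord s 3 + q * (coord s 4 +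
    q * (coord s 5 + q * coord s 6)))))

/-- The order of the torus of the universal group. -/
def bigN (q : ℕ) : ℕ := (q ^ 4 - q ^ 2 + 1) * (q ^ 3 + 1)

/-- The order of the torus. -/
def smallN (q : ℕ) : ℕ := bigN q / Nat.gcd 2 (q - 1)

theorem chk_small : (allBelow 7 fun k => allBelow 127 fun s => allBelow s fun t =>
    !decide ((valE ((k + 3 : ℕ) : ℤ) t - valE ((k + 3 : ℕ) : ℤ) s) % (smallN (k + 3) : ℤ) = 0)) = true := by
  decide +kernel

theorem chk_bound : (allBelow 127 fun s => allBelow 7 fun k =>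
    decide (-2 ≤ coord s k ∧ coord s k ≤ 2)) = true := by decide +kernel

theorem chk_distinct : (allBelow 127 fun s => allBelow s fun t =>
    anyBelow 7 fun k => !decide (coord t k = coord s k)) = true := by decide +kernel

theorem chk_two : (allBelow 126 fun s => !decide (valE 2 s % 117 = 0)) = true := by decide +kernel

theorem bound (s : ℕ) (hs : s < 127) (k : ℕ) (hk : k < 7) : -2 ≤ coord s k ∧ coord s k ≤ 2 := by
  have h := allBelow_spec (allBelow_spec chk_bound s hs) k hk
  rwa [decide_eq_true_eq] at h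

theorem horner_step {q c r : ℤ} (hc : |c| < q) (h : c + q * r = 0) : c = 0 ∧ r = 0 := by
  have hq : 0 < q := lt_of_le_of_lt (abs_nonneg c) hc
  by_cases hr : r = 0
  · subst hr
    exact ⟨by simpa using h, rfl⟩
  have h1 : 1 ≤ |r| := Int.one_le_abs hr
  have h2 : |c| = q * |r| := by
    rw [show c = -(q * r) by linarith, abs_neg, abs_mul, abs_of_pos hq]
  nlinarith

theorem valE_inj {q : ℕ} (hq : 3 ≤ q) {s t : ℕ} (hs : s < 127) (ht : t < 127)
    (h : (smallN q : ℤ) ∣ valE q t - valE q s) : s = t := by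
  by_contra hne
  by_cases hq10 : q < 10
  · obtain ⟨k, hk, rfl⟩ : ∃ k < 7, q = k + 3 := ⟨q - 3, by omega, by omega⟩
    rcases Nat.lt_or_ge t s with hlt | hge
    · have h1 := allBelow_spec (allBelow_spec (allBelow_spec chk_small k hk) s hs) t hlt
      rw [Bool.not_eq_true', decide_eq_false_iff_not] at h1
      exact h1 (Int.emod_eq_zero_of_dvd h)
    · have h1 := allBelow_spec (allBelow_spec (allBelow_spec chk_small k hk) t ht) s (by omega)
      rw [Bool.not_eq_true', decide_eq_false_iff_not] at h1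
      refine h1 (Int.emod_eq_zero_of_dvd ?_)
      have := h.neg_right
      rwa [neg_sub] at this
  push Not at hq10
  obtain ⟨d, hd⟩ : ∃ d : ℕ → ℤ, ∀ k, d k = coord t k - coord s k := ⟨_, fun _ => rfl⟩
  have hb : ∀ k < 7, |d k| ≤ 4 := fun k hk => by
    have := bound s hs k hk
    have := bound t ht k hk
    rw [hd, abs_le]
    omega
  have e : valE q t - valE q s =
      d 0 + q * (d 1 + q * (d 2 + q * (d 3 + q * (d 4 + q * (d 5 + q * d 6))))) := by
    simp only [valE, hd]; ring
  rw [e] at h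
  set Q : ℤ := (q : ℤ) with hQ
  have hQ10 : 10 ≤ Q := by omega
  set n5 := d 5 + Q * d 6 with h5
  set n4 := d 4 + Q * n5 with h4
  set n3 := d 3 + Q * n4 with h3
  set n2 := d 2 + Q * n3 with h2
  set n1 := d 1 + Q * n2 with h1
  have step : ∀ (a r B : ℤ), |a| ≤ 4 → |r| ≤ B → |a + Q * r| ≤ 4 + Q * B := fun a r B ha hr => by
    refine (abs_add_le _ _).trans (add_le_add ha ?_)
    rw [abs_mul, abs_of_pos (by omega : (0 : ℤ) < Q)]
    exact mul_le_mul_of_nonneg_left hr (by omega)
  have b6 : |d 6| ≤ 4 := hb 6 (by norm_num)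
  have b5 := step (d 5) (d 6) 4 (hb 5 (by norm_num)) b6
  have b4 := step (d 4) n5 _ (hb 4 (by norm_num)) b5
  have b3 := step (d 3) n4 _ (hb 3 (by norm_num)) b4
  have b2 := step (d 2) n3 _ (hb 2 (by norm_num)) b3
  have b1 := step (d 1) n2 _ (hb 1 (by norm_num)) b2
  have b0 := step (d 0) n1 _ (hb 0 (by norm_num)) b1
  have hN : (bigN q : ℤ) = (Q ^ 4 - Q ^ 2 + 1) * (Q ^ 3 + 1) := by
    have : q ^ 2 ≤ q ^ 4 := Nat.pow_le_pow_right (by omega) (by norm_num)
    rw [bigN, hQ]
    push_cast [Nat.cast_sub this]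
    ring
  have hn : (bigN q : ℤ) ≤ 2 * (smallN q : ℤ) + 1 := by
    have hg : Nat.gcd 2 (q - 1) ≤ 2 := Nat.le_of_dvd (by norm_num) (Nat.gcd_dvd_left _ _)
    have hg0 : 0 < Nat.gcd 2 (q - 1) := Nat.gcd_pos_of_pos_left _ (by norm_num)
    have : bigN q ≤ 2 * smallN q + 1 := by
      rw [smallN]
      interval_cases hgv : Nat.gcd 2 (q - 1) <;> omega
    exact_mod_cast this
  have key : 2 * (4 + Q * (4 + Q * (4 + Q * (4 + Q * (4 + Q * (4 + Q * 4)))))) + 1 < (bigN q : ℤ) := by
    rw [hN]
    have p2 : 10 * Q ≤ Q ^ 2 := by nlinarith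
    have p3 : 10 * Q ^ 2 ≤ Q ^ 3 := by nlinarith
    have p4 : 10 * Q ^ 3 ≤ Q ^ 4 := by nlinarith
    have p5 : 10 * Q ^ 4 ≤ Q ^ 5 := by nlinarith
    have p6 : 10 * Q ^ 5 ≤ Q ^ 6 := by nlinarith
    have p7 : 10 * Q ^ 6 ≤ Q ^ 7 := by nlinarith
    nlinarith
  have hzero := Int.eq_zero_of_abs_lt_dvd h (by omega)
  obtain ⟨z0, hz1⟩ := horner_step (by have := hb 0 (by norm_num); omega) hzero
  obtain ⟨z1, hz2⟩ := horner_step (by have := hb 1 (by norm_num); omega) hz1
  obtain ⟨z2, hz3⟩ := horner_step (by have := hb 2 (by norm_num); omega) hz2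
  obtain ⟨z3, hz4⟩ := horner_step (by have := hb 3 (by norm_num); omega) hz3
  obtain ⟨z4, hz5⟩ := horner_step (by have := hb 4 (by norm_num); omega) hz4
  obtain ⟨z5, z6⟩ := horner_step (by have := hb 5 (by norm_num); omega) hz5
  have hall : ∀ k < 7, coord t k = coord s k := fun k hk => by
    have : d k = 0 := by interval_cases k <;> assumption
    rw [hd, sub_eq_zero] at this
    exact this
  rcases Nat.lt_or_ge t s with hlt | hge
  · obtain ⟨k, hk, hk'⟩ := anyBelow_spec (allBelow_spec (allBelow_spec chk_distinct s hs) t hlt)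
    rw [Bool.not_eq_true', decide_eq_false_iff_not] at hk'
    exact hk' (hall k hk)
  · obtain ⟨k, hk, hk'⟩ := anyBelow_spec (allBelow_spec (allBelow_spec chk_distinct t ht) s (by omega))
    rw [Bool.not_eq_true', decide_eq_false_iff_not] at hk'
    exact hk' (hall k hk).symm

theorem valE_ne {q : ℕ} (hq : 2 ≤ q) {s : ℕ} (hs : s < 126) : ¬ (smallN q : ℤ) ∣ valE q s := by
  intro h
  rcases Nat.eq_or_lt_of_le hq with rfl | hq3
  · have h1 := allBelow_spec chk_two s hs
    rw [Bool.not_eq_true', decide_eq_false_iff_not] at h1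
    exact h1 (Int.emod_eq_zero_of_dvd h)
  · have h0 : valE q 126 = 0 := by
      have e : ∀ k, coord 126 k = 0 := fun k => by
        rw [coord, List.getD_eq_default _ _ (by decide +kernel : coords.length ≤ 126)]
        rfl
      simp [valE, e]
    have := valE_inj hq3 (by norm_num : 126 < 127) (by omega : s < 127) (by rw [h0, sub_zero]; exact h)
    omega

end CfsgLib.Known.ChevSinger.AdjE7
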