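import Cfsg.Agent.Lib.Known.ChevSinger.Adjoint.Steinberg
import Cfsg.Agent.Lib.Known.ChevSinger.Adjoint.Classes
import Cfsg.Agent.Lib.Known.ChevSinger.Linear
import Cfsg.Agent.Lib.Chev.Data.E7

/-!
# Certified data of the torus of type `Φ₁₂ Φ₆ Φ₂` in E7
-/

set_option autoImplicit false
set_option maxRecDepth 100000

namespace CfsgLib.Known.ChevSinger.AdjE7

open Cfsg.Lie CfsgLib.Chev CfsgLib.Chev.Table Matrix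

/-- The roots of E6 among those of E7. -/
def iota67 (r : ℕ) : ℕ := slot 0x7700730070006e006d006a0068006700650064006300610060005f005e005d005a0058005700550054005300510050004f004e004c004b004a0049004700460045004300420040003d003b003a0038003700360034003300320031002f002e002d002c002a002900280026002500230020001f001e001d001c001a001900180016001500130010000f000d000a0006 r

/-- The conjugator of the reflection. -/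
def yWord : List (Fin chevE7.rank) := toWord chevE7 146231

/-- The fundamental reflection. -/
def jIdx : Fin chevE7.rank := ⟨1, by decide +kernel⟩

/-- The Coxeter word of E6 inside E7. -/
def wE6 : List (Fin chevE7.rank) := toWord chevE7 42798

/-- The Weyl word. -/
def word : List (Fin chevE7.rank) := yWord ++ [jIdx] ++ yWord.reverse ++ wE6

/-- The root of the reflection. -/
def bRoot : ℕ := 89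

theorem chk_b : (Nat.beq (actW DataE7.tab (yWord.map Fin.val) (DataE7.tab.smp 1)) bRoot &&
    Nat.beq (actW DataE7.tab (wE6.map Fin.val) (actW DataE7.tab (wE6.map Fin.val)
      (actW DataE7.tab (wE6.map Fin.val) bRoot))) bRoot &&
    ([bRoot, DataE7.tab.neg bRoot].all fun r =>
      let s₁ := actW DataE7.tab (wE6.map Fin.val) bRoot
      let s₂ := actW DataE7.tab (wE6.map Fin.val) s₁
      [s₁, DataE7.tab.neg s₁, s₂, DataE7.tab.neg s₂].all fun s =>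
        !Nat.beq s r && !Nat.beq s (DataE7.tab.neg r) && Nat.beq (DataE7.tab.ent r s) 0)) = true := by
  decide +kernel

/-- The matrix of the Weyl word. -/
def A0 : Matrix (Fin 7) (Fin 7) ℤ :=
  !![-1, 0, 1, 0, 0, 0, 0;
    -1, -1, 1, 1, -1, 1, -1;
    -2, 0, 1, 1, -1, 1, -1;
    -3, -1, 2, 1, -1, 2, -2;
    -2, -1, 1, 1, -1, 2, -1;
    -2, -1, 1, 1, -1, 1, 0;
    -1, 0, 1, 0, -1, 1, 0]
/-- Its powers. -/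
def A2 : Matrix (Fin 7) (Fin 7) ℤ :=
  !![-1, 0, 0, 1, -1, 1, -1;
    -2, 0, 0, 1, 0, 0, -1;
    -2, -1, 0, 2, -1, 1, -2;
    -3, -1, -1, 3, -1, 1, -2;
    -3, -1, 0, 2, -1, 1, -1;
    -2, 0, 0, 1, -1, 1, -1;
    -1, 0, 0, 1, -1, 0, 0]
/-- Its powers. -/
def A3 : Matrix (Fin 7) (Fin 7) ℤ :=
  !![-1, -1, 0, 1, 0, 0, -1;
    0, -1, -1, 1, 0, 1, -2;
    -1, -1, -1, 1, 1, 0, -2;
    -1, -2, -1, 1, 1, 1, -3;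
    -1, -1, -1, 1, 0, 1, -2;
    0, -1, -1, 1, 0, 0, -1;
    0, 0, 0, 0, 0, 0, -1]
/-- Its powers. -/
def A4 : Matrix (Fin 7) (Fin 7) ℤ :=
  !![0, 0, -1, 0, 1, 0, -1;
    0, -1, -1, 0, 2, -1, 0;
    1, -1, -2, 0, 2, 0, -1;
    1, -1, -3, 0, 3, -1, 0;
    1, -1, -2, 0, 2, -1, 0;
    1, 0, -1, -1, 2, -1, 0;
    1, 0, -1, 0, 1, -1, 0]
/-- Its powers. -/
def A5 : Matrix (Fin 7) (Fin 7) ℤ :=
  !![1, -1, -1, 0, 1, 0, 0;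
    1, 0, -1, -1, 1, 1, 0;
    1, -1, -1, -1, 2, 0, 1;
    2, -1, -1, -2, 2, 1, 1;
    2, 0, -1, -2, 2, 0, 1;
    2, 0, -1, -1, 1, 0, 1;
    1, 0, 0, -1, 1, 0, 0]
/-- Its powers. -/
def A7 : Matrix (Fin 7) (Fin 7) ℤ :=
  !![0, 0, 0, 0, -1, 1, 1;
    -1, 1, 1, -1, -1, 1, 1;
    -1, 0, 1, 0, -2, 1, 2;
    -1, 1, 2, -1, -3, 2, 2;
    -1, 1, 2, -1, -2, 1, 2;
    -1, 1, 1, 0, -2, 1, 1;
    -1, 0, 1, 0, -1, 1, 0]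

theorem pow_mats : A0 * A0 = A2 ∧ A0 * A2 = A3 ∧ A2 * A2 = A4 ∧ A2 * A3 = A5 ∧ A3 * A4 = A7 ∧
    A7 - A5 + A4 + A3 - A2 + 1 = 0 := by decide +kernel

theorem word_mat : wM chevE7 word = A0 := by
  have h : @id (Matrix (Fin 7) (Fin 7) ℤ) (wM chevE7 word) = A0 := by decide +kernel
  exact h

/-- The Cartan matrix. -/
def C7 : Matrix (Fin 7) (Fin 7) ℤ :=
  !![2, 0, -1, 0, 0, 0, 0;
    0, 2, 0, -1, 0, 0, 0;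
    -1, 0, 2, -1, 0, 0, 0;
    0, -1, -1, 2, -1, 0, 0;
    0, 0, 0, -1, 2, -1, 0;
    0, 0, 0, 0, -1, 2, -1;
    0, 0, 0, 0, 0, -1, 2]

theorem cartan_mat : cartanMat chevE7 = C7 := by
  have h : @id (Matrix (Fin 7) (Fin 7) ℤ) (cartanMat chevE7) = C7 := by decide +kernel
  exact h

theorem form_cartan : ∀ i : Fin chevE7.rank,
    (reflM chevE7 i)ᵀ * (cartanMat chevE7)ᵀ * reflM chevE7 i = (cartanMat chevE7)ᵀ := by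
  decide +kernel

/-- The lattice map. -/
def R7 : Matrix (Fin 7) (Fin 7) ℤ :=
  !![-1, 0, 0, 0, 0, 0, 0;
    -1, -2, -1, -2, -2, -1, -1;
    -2, -1, -2, -2, -2, -1, -1;
    -3, -3, -3, -5, -4, -2, -2;
    -2, -2, -2, -3, -3, -1, -1;
    -2, -2, -2, -3, -3, -2, -1;
    -1, -1, -1, -2, -2, -1, -1]
/-- Its inverse. -/
def Ri7 : Matrix (Fin 7) (Fin 7) ℤ :=
  !![-1, 0, 0, 0, 0, 0, 0;
    0, -1, 0, 0, 0, 0, 1;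
    1, 0, -1, 0, 0, 0, 1;
    0, 1, 1, -1, 0, 0, 0;
    0, 0, 0, 1, -1, 0, -1;
    0, 0, 0, 0, 1, -1, 0;
    0, -1, -1, 0, 1, 1, -1]
/-- Twice the inverse Cartan matrix. -/
def Ad7 : Matrix (Fin 7) (Fin 7) ℤ :=
  !![4, 4, 6, 8, 6, 4, 2;
    4, 7, 8, 12, 9, 6, 3;
    6, 8, 12, 16, 12, 8, 4;
    8, 12, 16, 24, 18, 12, 6;
    6, 9, 12, 18, 15, 10, 5;
    4, 6, 8, 12, 10, 8, 4;
    2, 3, 4, 6, 5, 4, 3]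
/-- The inverse orbit matrix of the root 2. -/
def X7 : Matrix (Fin 7) (Fin 7) ℤ :=
  !![1, -1, 0, 0, 0, 0, 0;
    0, 1, -1, 0, 0, 0, 0;
    -2, 0, 1, 0, 0, 0, 0;
    1, -2, 0, 1, -1, 1, 0;
    1, 1, -1, -1, 1, 0, 0;
    -1, 0, 0, 0, 1, -1, 0;
    0, -1, 0, 1, -1, 1, -1]

theorem lattice_mats : A0 = 1 + R7 * C7ᵀ ∧ R7 * Ri7 = 1 ∧ Ad7 * C7 = (2 : ℤ) • 1 := by decide +kernel

theorem orbit_inv : orbitMat A0 (fun j : Fin 7 => DataE7.co 2 j.val) * X7 = 1 := by decide +kernel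

/-- The coordinates of the roots on the orbit. -/
def coords : List (List ℤ) := [[0, 1, 1, -1, 0, 1, 0],
  [1, 1, -1, 0, 1, 0, 0],
  [1, 0, 0, 0, 0, 0, 0],
  [1, 0, 0, 1, -1, 0, 1],
  [1, 0, 0, 0, 0, 1, 0],
  [1, 0, 0, 1, 0, 0, 1],
  [1, 0, 0, 1, 0, 0, 0],
  [0, 1, 0, -1, 0, 0, 0],
  [0, 1, 0, -2, 1, 1, -1],
  [0, 1, 0, -1, 1, 0, 0],
  [0, 1, 0, -1, 1, 0, -1],
  [0, 1, 0, -1, 0, 1, 0],
  [0, 1, 0, 0, 0, 0, 1],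
  [0, 1, 0, 0, 0, 0, 0],
  [0, 1, 0, -1, 1, 1, 0],
  [0, 1, 0, -1, 1, 1, -1],
  [0, 1, 0, 0, 1, 0, 0],
  [0, 0, 1, -1, -1, 1, 0],
  [0, 0, 1, 0, -1, 0, 1],
  [0, 0, 1, 0, -1, 0, 0],
  [0, 0, 1, -1, 0, 1, 0],
  [0, 0, 1, -1, 0, 1, -1],
  [0, 0, 1, 0, 0, 0, 0],
  [0, 0, 1, 0, -1, 1, 1],
  [0, 0, 1, 0, -1, 1, 0],
  [0, 0, 1, 1, -1, 0, 1],
  [0, 0, 1, 0, 0, 1, 0],
  [-1, 1, 1, -2, 0, 1, 0],
  [-1, 1, 1, -2, 0, 1, -1],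
  [-1, 1, 1, -1, 0, 0, 0],
  [-1, 1, 1, -2, 1, 1, -1],
  [-1, 1, 1, -1, 0, 1, 0],
  [-1, 0, 2, -1, -1, 1, 0],
  [1, 0, -1, 0, 0, 0, 0],
  [1, 0, -1, 1, 0, -1, 1],
  [1, 0, -1, 1, 0, -1, 0],
  [1, 0, -1, 0, 1, 0, 0],
  [1, 0, -1, 0, 1, 0, -1],
  [1, 0, -1, 1, 1, -1, 0],
  [1, 0, -1, 1, 0, 0, 1],
  [1, 0, -1, 1, 0, 0, 0],
  [1, 0, -1, 2, 0, -1, 1],
  [1, 0, -1, 1, 1, 0, 0],
  [1, -1, 0, 1, -1, 0, 1],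
  [1, -1, 0, 1, -1, 0, 0],
  [1, -1, 0, 2, -1, -1, 1],
  [1, -1, 0, 1, 0, 0, 0],
  [1, -1, 0, 2, -1, 0, 1],
  [0, 1, -1, -1, 1, 0, 0],
  [0, 1, -1, -1, 1, 0, -1],
  [0, 1, -1, 0, 1, -1, 0],
  [0, 1, -1, -1, 2, 0, -1],
  [0, 1, -1, 0, 1, 0, 0],
  [0, 0, 0, -1, 0, 0, 0],
  [0, 0, 0, -1, 0, 0, -1],
  [0, 0, 0, 0, 0, -1, 0],
  [0, 0, 0, -1, 1, 0, -1],
  [0, 0, 0, 0, -1, 0, 1],
  [0, 0, 0, 0, -1, 0, 0],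
  [0, 0, 0, 1, -1, -1, 1],
  [0, 0, 0, -1, 0, 1, 0],
  [0, 0, 0, -1, 0, 1, -1],
  [0, 0, 0, 0, 0, 0, 1],
  [0, 0, 0, 0, 0, 0, -1],
  [0, 0, 0, 1, 0, -1, 1],
  [0, 0, 0, 1, 0, -1, 0],
  [0, 0, 0, -1, 1, 1, -1],
  [0, 0, 0, 0, 1, 0, 0],
  [0, 0, 0, 0, 1, 0, -1],
  [0, 0, 0, 1, -1, 0, 1],
  [0, 0, 0, 0, 0, 1, 0],
  [0, 0, 0, 1, 0, 0, 1],
  [0, 0, 0, 1, 0, 0, 0],
  [0, -1, 1, 0, -1, 0, 0],
  [0, -1, 1, 1, -2, 0, 1],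
  [0, -1, 1, 0, -1, 1, 0],
  [0, -1, 1, 1, -1, 0, 1],
  [0, -1, 1, 1, -1, 0, 0],
  [-1, 1, 0, -2, 1, 0, -1],
  [-1, 1, 0, -1, 0, 0, 0],
  [-1, 1, 0, -2, 1, 1, -1],
  [-1, 1, 0, -1, 1, 0, 0],
  [-1, 1, 0, -1, 1, 0, -1],
  [-1, 0, 1, -1, -1, 0, 0],
  [-1, 0, 1, -2, 0, 1, -1],
  [-1, 0, 1, -1, 0, 0, 0],
  [-1, 0, 1, -1, 0, 0, -1],
  [-1, 0, 1, -1, -1, 1, 0],
  [-1, 0, 1, 0, -1, 0, 1],
  [-1, 0, 1, 0, -1, 0, 0],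
  [-1, 0, 1, -1, 0, 1, 0],
  [-1, 0, 1, -1, 0, 1, -1],
  [-1, 0, 1, 0, 0, 0, 0],
  [1, 0, -2, 1, 1, -1, 0],
  [1, -1, -1, 1, 0, -1, 0],
  [1, -1, -1, 2, -1, -1, 1],
  [1, -1, -1, 1, 0, 0, 0],
  [1, -1, -1, 2, 0, -1, 1],
  [1, -1, -1, 2, 0, -1, 0],
  [0, 0, -1, 0, 0, -1, 0],
  [0, 0, -1, -1, 1, 0, -1],
  [0, 0, -1, 0, 1, -1, 0],
  [0, 0, -1, 0, 1, -1, -1],
  [0, 0, -1, 0, 0, 0, 0],
  [0, 0, -1, 1, 0, -1, 1],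
  [0, 0, -1, 1, 0, -1, 0],
  [0, 0, -1, 0, 1, 0, 0],
  [0, 0, -1, 0, 1, 0, -1],
  [0, 0, -1, 1, 1, -1, 0],
  [0, -1, 0, 0, -1, 0, 0],
  [0, -1, 0, 1, -1, -1, 1],
  [0, -1, 0, 1, -1, -1, 0],
  [0, -1, 0, 0, 0, 0, 0],
  [0, -1, 0, 0, 0, 0, -1],
  [0, -1, 0, 1, 0, -1, 0],
  [0, -1, 0, 1, -1, 0, 1],
  [0, -1, 0, 1, -1, 0, 0],
  [0, -1, 0, 2, -1, -1, 1],
  [0, -1, 0, 1, 0, 0, 0],
  [-1, 0, 0, -1, 0, 0, 0],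
  [-1, 0, 0, -1, 0, 0, -1],
  [-1, 0, 0, 0, 0, -1, 0],
  [-1, 0, 0, -1, 1, 0, -1],
  [-1, 0, 0, 0, 0, 0, 0],
  [-1, -1, 1, 0, -1, 0, 0],
  [0, -1, -1, 1, 0, -1, 0]]

theorem chk_coords : (allBelow 126 fun s => allBelow 7 fun j => decide
    (((List.range 7).map fun k => (coords.getD s []).getD k 0 *
      DataE7.tab.co (actPow DataE7.tab (word.map Fin.val) k 2) j).sum = DataE7.tab.co s j)) = true := by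
  decide +kernel

end CfsgLib.Known.ChevSinger.AdjE7
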