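import Cfsg.Agent.Lib.Known.ChevSinger.Torus
import Cfsg.Agent.Lib.Known.ChevSinger.Adjoint.Steinberg

/-!
# The cyclic torus of an adjoint group in a given frame

Given a Lang frame `P` of a Weyl element with a cyclic lattice, an element with diagonal centraliser has a
cyclic centraliser of the expected order; no unimodularity of the Cartan matrix is assumed.
-/

set_option autoImplicit false
set_option linter.unusedSectionVars false

namespace CfsgLib.Known.ChevSinger

open Cfsg.Lie CfsgLib.Chev Polynomial Matrix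

universe u v

variable {D : ChevalleyDatum} {co : ℕ → ℕ → ℤ}

/-- The lattice hypotheses on the word `l₀`. -/
structure LatticeData (D : ChevalleyDatum) (co : ℕ → ℕ → ℤ) (l₀ : List (Fin D.rank)) (P : ℤ[X])
    (R Ri : Matrix (Fin D.rank) (Fin D.rank) ℤ) (α : Fin D.nroots) : Prop where
  eq : wM D l₀ = 1 + R * (cartanMat D)ᵀ
  inv : R * Ri = 1
  monic : P.Monic
  degree : P.natDegree = D.rank
  pos : 0 < D.rank
  root : aeval (wM D l₀) P = 0
  cyclic : IsUnit (orbitMat (wM D l₀) (coV D co α.val)).det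

theorem hT_extC {K : Type v} [Field K] (c : ℕ → Kˣ) :
    hT D (extC D fun i : Fin D.rank => c i.val) = hT D c :=
  hT_ext fun s _ => Finset.prod_congr rfl fun i hi => by simp [extC, Finset.mem_range.1 hi]

theorem aeval_semiconj {n : ℕ} {A A' X : Matrix (Fin n) (Fin n) ℤ} (h : X * A = A' * X)
    (p : ℤ[X]) : X * aeval A p = aeval A' p * X := by
  induction p using Polynomial.induction_on' with
  | add p q hp hq => rw [map_add, map_add, mul_add, add_mul, hp, hq]
  | monomial k a =>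
    rw [aeval_monomial, aeval_monomial, ← Algebra.smul_def, ← Algebra.smul_def, Matrix.mul_smul,
      Matrix.smul_mul]
    congr 1
    exact (SemiconjBy.pow_right (show SemiconjBy X A A' from h) k).eq

/-- An element of the torus in the frame with the characters of a generator. -/
theorem exists_point (hF : Facts D co) (hN : HasNbr D)
    {Ad : Matrix (Fin D.rank) (Fin D.rank) ℤ} {m : ℕ} {l₀ : List (Fin D.rank)} {Pp : ℤ[X]}
    {R Ri : Matrix (Fin D.rank) (Fin D.rank) ℤ} {α : Fin D.nroots}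
    (hD : LatticeData D co l₀ Pp R Ri α) {F : Type u} [Field F] {K : Type v} [Field K] [Finite K]
    (hCF : CommF.{u} D) (hC : CommF.{v} D) (hT' : TorusFacts.{v} D Ad m)
    (ι : F →+* K) (σ : K →+* K) {q : ℕ} (hq : 2 ≤ q) (hσ : ∀ x, σ x = x ^ q) (hσι : σ.comp ι = ι)
    (hfixF : ∀ t : K, σ t = t → ∃ u, ι u = t)
    (hN0 : 0 < Pp.eval (q : ℤ)) (hNK : (Pp.eval (q : ℤ)).natAbs ∣ Nat.card K - 1)
    {P : GL D.Idx K} (hP : P ∈ D.group K)
    (hMmono : P * (extG D σ P)⁻¹ ∈ D.monomialSubgroup K)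
    (hMact : PermAct (P * (extG D σ P)⁻¹) (sW D l₀)) :
    ∃ (h : ↥(D.group F)) (c : Fin D.rank → Kˣ) (b : Kˣ),
      orderOf b = (Pp.eval (q : ℤ)).natAbs / Nat.gcd (Pp.eval (q : ℤ)).natAbs (q - 1) ∧
      P * extG D ι (h : GL D.Idx F) * P⁻¹ = hT D (extC D c) ∧
      ∀ (s : Fin D.nroots) (z : Fin D.rank → ℤ),
        coV D co s.val = orbitMat (wM D l₀) (coV D co α.val) *ᵥ z →
          chiT D (extC D c) s.val = b ^ (∑ i, z i * (q : ℤ) ^ (i : ℕ)) := by
  classical
  set A := wM D l₀ with hA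
  set A' := wWt D R with hA'
  set N : ℕ := (Pp.eval (q : ℤ)).natAbs with hNdef
  have hNz : (N : ℤ) = Pp.eval (q : ℤ) := Int.natAbs_of_nonneg hN0.le
  set g : ℕ := Nat.gcd N (q - 1) with hg
  have hσu : ∀ x : Kˣ, Units.map σ.toMonoidHom x = x ^ q := fun x =>
    Units.ext (by rw [Units.val_pow_eq_pow_val]; exact hσ x)
  have hRA : R * A' = A * R := by
    rw [hA', wWt, hA, hD.eq, mul_add, add_mul, mul_one, one_mul, mul_assoc]
  have hRiR : Ri * R = 1 := mul_eq_one_comm.1 hD.inv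
  have hA'Ri : Ri * A = A' * Ri := by
    calc Ri * A = Ri * (A * R) * Ri := by rw [mul_assoc, mul_assoc, hD.inv, mul_one]
      _ = Ri * (R * A') * Ri := by rw [hRA]
      _ = A' * Ri := by rw [← mul_assoc, hRiR, one_mul]
  have hPA' : aeval A' Pp = 0 := by
    have h1 := aeval_semiconj hA'Ri Pp
    rw [hD.root, mul_zero] at h1
    calc aeval A' Pp = aeval A' Pp * Ri * R := by rw [mul_assoc, hRiR, mul_one]
      _ = 0 := by rw [← h1, zero_mul]
  set y₀ := Ri *ᵥ coV D co α.val with hy₀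
  have hA'α : A' *ᵥ y₀ - y₀ = (cartanMat D)ᵀ *ᵥ coV D co α.val := by
    rw [hA', wWt, Matrix.add_mulVec, Matrix.one_mulVec, add_sub_cancel_left, hy₀,
      Matrix.mulVec_mulVec, mul_assoc, hD.inv, mul_one]
  -- lifts
  obtain ⟨θF, hθFs, -, hθF⟩ := hF.exists_surj hCF hN (K := F)
  obtain ⟨θK, hθKs, -, hθK⟩ := hF.exists_surj hC hN (K := K)
  set φF := (D.group F).subtype.comp θF with hφFdef
  have hφF : IsTheta D φF := hF.isTheta_subtype hθF
  set φ := (D.group K).subtype.comp θK with hφdef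
  have hφ : IsTheta D φ := hF.isTheta_subtype hθK
  obtain ⟨f, hf, -⟩ := hF.st_torus_hom hN hφ
  obtain ⟨Pt, hPt'⟩ := hθKs ⟨P, hP⟩
  have hPt : φ Pt = P := congrArg Subtype.val hPt'
  set Mt := Pt * (stMap D σ Pt)⁻¹ with hMt
  have hφM : φ Mt = P * (extG D σ P)⁻¹ := by
    rw [hMt, map_mul, map_inv, map_stMap hF σ hφ hφ, hPt]
  have hMm : φ Mt ∈ D.monomialSubgroup K := hφM ▸ hMmono
  have hMa : PermAct (φ Mt) (sW D l₀) := hφM ▸ hMact
  have htorus : ∀ (z : D.SteinbergGroup K) (c : ℕ → Kˣ), φ z = hT D c →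
      ∃ c' : Fin D.rank → Kˣ, z = stT D c' := by
    intro z c hz
    have h1 : φ ((stT D fun i => c i.val)⁻¹ * z) = 1 := by
      rw [map_mul, map_inv, hF.stT_map hN hφ, hz, inv_mul_eq_one]
      exact hT_extC c
    obtain ⟨-, k, hk, -⟩ := ker_stT hF hN hC hT' hφ h1
    refine ⟨(fun i => c i.val) * k, ?_⟩
    rw [← hf, map_mul, hf, hf, ← hk, mul_inv_cancel_left]
  -- an element of maximal order
  obtain ⟨a, ha⟩ : ∃ a : Kˣ, orderOf a = N := by
    have hKu : Nat.card Kˣ = Nat.card K - 1 := by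
      have := Fintype.ofFinite K
      rw [Nat.card_eq_fintype_card, Fintype.card_units, Nat.card_eq_fintype_card]
    obtain ⟨e, he⟩ := hNK
    obtain ⟨z, hz⟩ := IsCyclic.exists_generator (α := Kˣ)
    have hzo : orderOf z = Nat.card K - 1 := by rw [orderOf_eq_card_of_forall_mem_zpowers hz, hKu]
    have hpos : 0 < Nat.card K - 1 := by
      have := Finite.one_lt_card (α := K); omega
    have he0 : e ≠ 0 := fun h0 => by rw [h0, mul_zero] at he; omega
    exact ⟨z ^ e, by rw [orderOf_pow' z he0, hzo, he, Nat.gcd_mul_left_left,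
      Nat.mul_div_cancel _ (Nat.pos_of_ne_zero he0)]⟩
  have horb : orbitMat A' y₀ = Ri * orbitMat A (coV D co α.val) := by
    have hp : ∀ i : ℕ, A' ^ i *ᵥ y₀ = Ri *ᵥ (A ^ i *ᵥ coV D co α.val) := fun i => by
      rw [hy₀, Matrix.mulVec_mulVec, Matrix.mulVec_mulVec,
        (SemiconjBy.pow_right (show SemiconjBy Ri A A' from hA'Ri) i).eq]
    ext j i
    rw [Matrix.mul_apply]
    exact congrFun (hp i.val) j
  obtain ⟨L, hLa, hLA⟩ := exists_hom A' hD.monic hD.degree hD.pos hPA' (v0 := y₀) (by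
      rw [horb, Matrix.det_mul]
      exact (IsUnit.of_mul_eq_one R.det (by rw [← Matrix.det_mul, hRiR, Matrix.det_one])).mul
        hD.cyclic)
    (q : ℤ) (a := Additive.ofMul a) (by
      rw [← hNz, natCast_zsmul, ← ofMul_pow, ← ha, pow_orderOf_eq_one, ofMul_one])
  set c := wPoint L with hcdef
  have hcrel : ∀ y, wHom (c ^ q) y = wHom c (A' *ᵥ y) := fun y => by
    rw [wHom_pow, hcdef, wHom_wPoint, wHom_wPoint, hLA]
  have hcM := st_conj hF hN hC hT' hφ hMm hMa hD.eq hcrel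
  set gt := Pt⁻¹ * stT D c * Pt with hgt
  have hgtfix : stMap D σ gt = gt := by
    have e : stMap D σ (stT D c) = Mt⁻¹ * (stT D c * Mt) := by
      rw [stMap_stT, ← hcM, inv_mul_cancel_left]
      exact congrArg _ (funext fun i => hσu _)
    rw [hgt, map_mul, map_mul, map_inv, e, hMt]
    group
  have hφgt : φ gt = P⁻¹ * hT D (extC D c) * P := by
    rw [hgt, map_mul, map_mul, map_inv, hPt, hF.stT_map hN hφ]
    rfl
  have hgfix : FixedPoints.gMap D σ (φ gt) = φ gt := by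
    show extG D σ (φ gt) = φ gt
    rw [← map_stMap hF σ hφ hφ, hgtfix]
  obtain ⟨e, he, h', hh', -, hge⟩ :=
    FixedPoints.fixed_decomp hF hC σ (θK gt).2 hgfix
  have heF : e ∈ (D.group F).map (extG D ι) := by
    refine (Subgroup.closure_le _).2 ?_ he
    rintro x ⟨s, t, hs, ht, rfl⟩
    obtain ⟨u, rfl⟩ := hfixF t ht
    refine ⟨xU D s u, ?_, extG_xU ι hF hs u⟩
    rw [hF.group_eq]
    exact xU_mem_rootClosure hs trivial u
  obtain ⟨e0, he0, hee0⟩ := heF
  obtain ⟨et, het⟩ := hθFs ⟨e0, he0⟩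
  have hφet : φ (stMap D ι et) = e := by
    rw [map_stMap hF ι hφF hφ, hφFdef, MonoidHom.comp_apply, het]
    exact hee0
  obtain ⟨c1', hc1'⟩ := hF.mem_diagonal_iff.1 hh'
  obtain ⟨c1, hc1⟩ := htorus ((stMap D ι et)⁻¹ * gt) c1' (by
    rw [map_mul, map_inv, hφet]
    exact (inv_mul_eq_iff_eq_mul.2 hge).trans hc1')
  have hc1fix : ∀ i, Units.map σ.toMonoidHom (c1 i) = c1 i := by
    have h1 : stMap D σ (stT D c1) = stT D c1 := by
      rw [← hc1, map_mul, map_inv, stMap_comp, hσι, hgtfix]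
    rw [stMap_stT] at h1
    exact fun i => congrFun (stT_injective' hF hN hC hT' h1) i
  have hu : ∀ i, ∃ u : Fˣ, Units.map ι.toMonoidHom u = c1 i := fun i => by
    obtain ⟨u, hu⟩ := hfixF (c1 i : K) (congrArg Units.val (hc1fix i))
    have hu0 : u ≠ 0 := fun h0 => (c1 i).ne_zero (by rw [← hu, h0, map_zero])
    exact ⟨Units.mk0 u hu0, Units.ext hu⟩
  choose u hu using hu
  set x : ↥(D.group F) := θF (et * stT D u) with hxdef
  have hx : extG D ι (x : GL D.Idx F) = φ gt := by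
    show extG D ι (φF (et * stT D u)) = _
    rw [← map_stMap hF ι hφF hφ, map_mul, stMap_stT, funext hu, ← hc1, mul_inv_cancel_left]
  have hcjx : P * extG D ι (x : GL D.Idx F) * P⁻¹ = hT D (extC D c) := by
    rw [hx, hφgt]
    group
  refine ⟨x, c, a ^ (q - 1), by rw [orderOf_pow' a (by omega : q - 1 ≠ 0), ha], hcjx, fun s z hz => ?_⟩
  let Lq : (Fin D.rank → ℤ) →+ Additive Kˣ :=
    (wHom c).comp (Matrix.mulVecLin (cartanMat D)ᵀ).toAddMonoidHom
  have hLq : ∀ v, Lq (A *ᵥ v) = (q : ℤ) • Lq v := fun v => by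
    show wHom c ((cartanMat D)ᵀ *ᵥ (A *ᵥ v)) = (q : ℤ) • wHom c ((cartanMat D)ᵀ *ᵥ v)
    rw [Matrix.mulVec_mulVec, ← wWt_mul hD.eq, ← Matrix.mulVec_mulVec, ← hcrel, wHom_pow,
      natCast_zsmul]
  have hLα : Lq (coV D co α.val) = Additive.ofMul (a ^ (q - 1)) := by
    show wHom c ((cartanMat D)ᵀ *ᵥ coV D co α.val) = _
    rw [← hA'α, hcdef, wHom_wPoint, map_sub, hLA, hLa, ofMul_pow,
      ← natCast_zsmul, Nat.cast_sub (by omega : 1 ≤ q), sub_smul, Nat.cast_one, one_smul]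
  have hpow : ∀ i : ℕ, Lq (A ^ i *ᵥ coV D co α.val) = (q : ℤ) ^ i • Lq (coV D co α.val) := by
    intro i
    induction i with
    | zero => simp
    | succ i ih => rw [pow_succ', ← Matrix.mulVec_mulVec, hLq, ih, pow_succ', mul_smul]
  refine Additive.ofMul.injective ?_
  rw [chiT_extC hF _ s.isLt, hz]
  show Lq (orbitMat A (coV D co α.val) *ᵥ z) = _
  rw [orbitMat_mulVec, map_sum, ofMul_zpow, ← hLα]
  refine Eq.trans ?_ (map_sum (zmultiplesHom (Additive Kˣ) (Lq (coV D co α.val))) _ _).symm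
  exact Finset.sum_congr rfl fun i _ => by rw [map_zsmul, hpow, zmultiplesHom_apply, mul_smul]

/-- The centraliser in the frame is cyclic of the expected order. -/
theorem exists_cyclic_frame (hF : Facts D co) (hN : HasNbr D)
    {Ad : Matrix (Fin D.rank) (Fin D.rank) ℤ} {m : ℕ} {l₀ : List (Fin D.rank)} {Pp : ℤ[X]}
    {R Ri : Matrix (Fin D.rank) (Fin D.rank) ℤ} {α : Fin D.nroots}
    (hD : LatticeData D co l₀ Pp R Ri α) {F : Type u} [Field F] {K : Type v} [Field K] [Finite K]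
    (hCF : CommF.{u} D) (hC : CommF.{v} D) (hT' : TorusFacts.{v} D Ad m)
    (ι : F →+* K) (σ : K →+* K) {q : ℕ} (hq : 2 ≤ q) (hσ : ∀ x, σ x = x ^ q) (hσι : σ.comp ι = ι)
    (hfixF : ∀ t : K, σ t = t → ∃ u, ι u = t)
    (hN0 : 0 < Pp.eval (q : ℤ)) (hNK : (Pp.eval (q : ℤ)).natAbs ∣ Nat.card K - 1)
    {P : GL D.Idx K} (hP : P ∈ D.group K)
    (hMmono : P * (extG D σ P)⁻¹ ∈ D.monomialSubgroup K)
    (hMact : PermAct (P * (extG D σ P)⁻¹) (sW D l₀)) (h : ↥(D.group F))
    (hdiag : ∀ x ∈ Subgroup.centralizer ({h} : Set ↥(D.group F)),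
      ∃ c, P * extG D ι (x : GL D.Idx F) * P⁻¹ = hT D c) :
    ∃ H : Subgroup ↥(D.group F), IsCyclic ↥H ∧
      Nat.card ↥H = (Pp.eval (q : ℤ)).natAbs /
        Nat.gcd (Pp.eval (q : ℤ)).natAbs (q - 1) ∧
      Subgroup.centralizer (H : Set ↥(D.group F)) = H := by
  classical
  set A := wM D l₀ with hA
  set A' := wWt D R with hA'
  set N : ℕ := (Pp.eval (q : ℤ)).natAbs with hNdef
  have hNz : (N : ℤ) = Pp.eval (q : ℤ) := Int.natAbs_of_nonneg hN0.le
  set g : ℕ := Nat.gcd N (q - 1) with hg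
  have hσu : ∀ x : Kˣ, Units.map σ.toMonoidHom x = x ^ q := fun x =>
    Units.ext (by rw [Units.val_pow_eq_pow_val]; exact hσ x)
  have hRA : R * A' = A * R := by
    rw [hA', wWt, hA, hD.eq, mul_add, add_mul, mul_one, one_mul, mul_assoc]
  have hRiR : Ri * R = 1 := mul_eq_one_comm.1 hD.inv
  have hA'Ri : Ri * A = A' * Ri := by
    calc Ri * A = Ri * (A * R) * Ri := by rw [mul_assoc, mul_assoc, hD.inv, mul_one]
      _ = Ri * (R * A') * Ri := by rw [hRA]
      _ = A' * Ri := by rw [← mul_assoc, hRiR, one_mul]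
  have hPA' : aeval A' Pp = 0 := by
    have h1 := aeval_semiconj hA'Ri Pp
    rw [hD.root, mul_zero] at h1
    calc aeval A' Pp = aeval A' Pp * Ri * R := by rw [mul_assoc, hRiR, mul_one]
      _ = 0 := by rw [← h1, zero_mul]
  set y₀ := Ri *ᵥ coV D co α.val with hy₀
  have hA'α : A' *ᵥ y₀ - y₀ = (cartanMat D)ᵀ *ᵥ coV D co α.val := by
    rw [hA', wWt, Matrix.add_mulVec, Matrix.one_mulVec, add_sub_cancel_left, hy₀,
      Matrix.mulVec_mulVec, mul_assoc, hD.inv, mul_one]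
  -- lifts
  obtain ⟨θF, hθFs, -, hθF⟩ := hF.exists_surj hCF hN (K := F)
  obtain ⟨θK, hθKs, -, hθK⟩ := hF.exists_surj hC hN (K := K)
  set φF := (D.group F).subtype.comp θF with hφFdef
  have hφF : IsTheta D φF := hF.isTheta_subtype hθF
  set φ := (D.group K).subtype.comp θK with hφdef
  have hφ : IsTheta D φ := hF.isTheta_subtype hθK
  obtain ⟨f, hf, -⟩ := hF.st_torus_hom hN hφ
  obtain ⟨Pt, hPt'⟩ := hθKs ⟨P, hP⟩
  have hPt : φ Pt = P := congrArg Subtype.val hPt'
  set Mt := Pt * (stMap D σ Pt)⁻¹ with hMt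
  have hφM : φ Mt = P * (extG D σ P)⁻¹ := by
    rw [hMt, map_mul, map_inv, map_stMap hF σ hφ hφ, hPt]
  have hMm : φ Mt ∈ D.monomialSubgroup K := hφM ▸ hMmono
  have hMa : PermAct (φ Mt) (sW D l₀) := hφM ▸ hMact
  have htorus : ∀ (z : D.SteinbergGroup K) (c : ℕ → Kˣ), φ z = hT D c →
      ∃ c' : Fin D.rank → Kˣ, z = stT D c' := by
    intro z c hz
    have h1 : φ ((stT D fun i => c i.val)⁻¹ * z) = 1 := by
      rw [map_mul, map_inv, hF.stT_map hN hφ, hz, inv_mul_eq_one]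
      exact hT_extC c
    obtain ⟨-, k, hk, -⟩ := ker_stT hF hN hC hT' hφ h1
    refine ⟨(fun i => c i.val) * k, ?_⟩
    rw [← hf, map_mul, hf, hf, ← hk, mul_inv_cancel_left]
  -- coordinates on the centraliser
  set C : Subgroup ↥(D.group F) := Subgroup.centralizer ({h} : Set ↥(D.group F)) with hCdef
  let cj : ↥(D.group F) →* GL D.Idx K :=
    (MulAut.conj P).toMonoidHom.comp ((extG D ι).comp (D.group F).subtype)
  have hcj : Function.Injective cj :=
    (MulAut.conj P).injective.comp ((extG_injective ι).comp Subtype.val_injective)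
  have hlift : ∀ x : C, ∃ c : Fin D.rank → Kˣ, cj x = hT D (extC D c) ∧
      ∀ y, wHom c (A' *ᵥ y) = (q : ℤ) • wHom c y := by
    rintro ⟨x, hx⟩
    obtain ⟨c0, hc0⟩ := hdiag x hx
    obtain ⟨xt, hxt⟩ := hθFs x
    set X := Pt * stMap D ι xt * Pt⁻¹ with hX
    have hφX : φ X = cj x := by
      rw [hX, map_mul, map_mul, map_inv, hPt, map_stMap hF ι hφF hφ, hφFdef, MonoidHom.comp_apply,
        hxt]
      rfl
    obtain ⟨c, hc⟩ := htorus X c0 (hφX.trans hc0)
    refine ⟨c, by rw [← hφX, hc, hF.stT_map hN hφ]; rfl, fun y => ?_⟩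
    have hσX : X * Mt = Mt * stMap D σ X := by
      have h1 : stMap D σ (stMap D ι xt) = stMap D ι xt := by rw [stMap_comp, hσι]
      rw [hX, hMt, map_mul, map_mul, map_inv, h1]
      group
    rw [hc, stMap_stT] at hσX
    set c2 := wPoint ((wHom c).comp (Matrix.mulVecLin A').toAddMonoidHom) with hc2
    have h2 : ∀ z, wHom c2 z = wHom c (A' *ᵥ z) := fun z => by rw [hc2, wHom_wPoint]; rfl
    have h3 := st_conj hF hN hC hT' hφ hMm hMa hD.eq (c := c) (c' := c2) h2
    rw [hσX] at h3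
    have h4 := stT_injective' hF hN hC hT' (mul_left_cancel h3)
    rw [← h2, h4, show (fun i => Units.map σ.toMonoidHom (c i)) = c ^ q from
      funext fun i => hσu _, wHom_pow]
  choose cc hcc hrel using hlift
  have hlinv : ∀ x : C, ∀ v, wHom (cc x) ((cartanMat D)ᵀ *ᵥ (A *ᵥ v)) =
      (q : ℤ) • wHom (cc x) ((cartanMat D)ᵀ *ᵥ v) := fun x v => by
    rw [Matrix.mulVec_mulVec, ← wWt_mul hD.eq, ← Matrix.mulVec_mulVec, hrel]
  let Φ : C →* Kˣ :=
    { toFun := fun x => chiT D (extC D (cc x)) α.val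
      map_one' := by
        have e : hT D (extC D (cc 1)) = hT D (fun _ => (1 : Kˣ)) := by
          rw [← hcc 1, hF.hT_one]; exact map_one cj
        rw [chiT_eq_of_hT e α.isLt, chiT_one]
      map_mul' := fun x y => by
        have e : hT D (extC D (cc (x * y))) =
            hT D (fun i => extC D (cc x) i * extC D (cc y) i) := by
          rw [hF.hT_mul, ← hcc, ← hcc, ← hcc, Subgroup.coe_mul, map_mul]
        rw [chiT_eq_of_hT e α.isLt, chiT_mul] }
  have hΦinj : Function.Injective Φ := by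
    rw [injective_iff_map_eq_one]
    intro x hx
    refine Subtype.ext (hcj ?_)
    rw [hcc x, Subgroup.coe_one, map_one, ← hF.hT_one]
    refine hT_ext fun s hs => ?_
    rw [chiT_one]
    let Lq : (Fin D.rank → ℤ) →+ Additive Kˣ :=
      (wHom (cc x)).comp (Matrix.mulVecLin (cartanMat D)ᵀ).toAddMonoidHom
    have h0 : Lq (coV D co α.val) = 0 := by
      show wHom (cc x) ((cartanMat D)ᵀ *ᵥ coV D co α.val) = 0
      rw [← chiT_extC hF _ α.isLt, ofMul_eq_zero]
      exact hx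
    have h1 := hom_eq_zero_of_orbit A (q : ℤ) Lq (hlinv x) h0 (coV D co s)
    have h2 : Lq (coV D co s) = Additive.ofMul (chiT D (extC D (cc x)) s) :=
      (chiT_extC hF _ hs).symm
    rw [h2] at h1
    rcases Int.isUnit_iff.1 hD.cyclic with e | e <;> rw [e] at h1 <;> simpa using h1
  have hgq : g ∣ q - 1 := Nat.gcd_dvd_right _ _
  have hgN : g ∣ N := Nat.gcd_dvd_left _ _
  have hΦN : ∀ x, Φ x ^ (N / g) = 1 := by
    intro x
    have h1 : (N : ℤ) • wHom (cc x) y₀ = 0 := by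
      rw [hNz, ← hom_aeval A' (q : ℤ) (wHom (cc x)) (hrel x) Pp y₀, hPA', Matrix.zero_mulVec, map_zero]
    have h2 : ((q - 1 : ℕ) : ℤ) • wHom (cc x) y₀ = Additive.ofMul (Φ x) := by
      show _ = Additive.ofMul (chiT D (extC D (cc x)) α.val)
      rw [chiT_extC hF _ α.isLt, ← hA'α, map_sub, hrel, Nat.cast_sub (by omega : 1 ≤ q), sub_smul,
        Nat.cast_one, one_smul]
    obtain ⟨a, ha⟩ := hgq
    obtain ⟨b, hb⟩ := hgN
    have hg0 : 0 < g := Nat.gcd_pos_of_pos_left _ (by omega)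
    have e : ((N / g : ℕ) : ℤ) * ((q - 1 : ℕ) : ℤ) = (a : ℤ) * (N : ℤ) := by
      rw [ha, hb, Nat.mul_div_cancel_left _ hg0]
      push_cast
      ring
    refine Additive.ofMul.injective ?_
    rw [ofMul_pow, ← h2, ← natCast_zsmul, ← mul_smul, e, mul_smul, h1, smul_zero, ofMul_one]
  -- an element of maximal order
  obtain ⟨x, c, b, hb, hcjx, hchi⟩ :=
    exists_point hF hN hD hCF hC hT' ι σ hq hσ hσι hfixF hN0 hNK hP hMmono hMact
  have hxC : x ∈ C := by
    obtain ⟨c0, hc0⟩ := hdiag h (Subgroup.mem_centralizer_singleton_iff.2 rfl)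
    rw [hCdef, Subgroup.mem_centralizer_singleton_iff]
    refine hcj ?_
    rw [map_mul, map_mul, show cj x = _ from hcjx, show cj h = hT D c0 from hc0, hT, hT]
    exact (dU_commute _ _).eq
  set xC : C := ⟨x, hxC⟩ with hxCdef
  have hΦx : Φ xC = b := by
    show chiT D (extC D (cc xC)) α.val = _
    rw [chiT_eq_of_hT ((hcc xC).symm.trans hcjx) α.isLt,
      hchi α (Pi.single ⟨0, hD.pos⟩ 1) ?_, Finset.sum_eq_single ⟨0, hD.pos⟩]
    · simp
    · intro i _ hi
      simp [hi]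
    · simp
    · funext j
      simp [Matrix.mulVec_single_one, orbitMat]
  have hxo : orderOf xC = N / g := by
    rw [← orderOf_injective Φ hΦinj, hΦx, hb]
  have hNpos : 0 < N := by omega
  have hng : 0 < N / g := Nat.div_pos (Nat.le_of_dvd hNpos hgN) (Nat.gcd_pos_of_pos_left _ hNpos)
  have : NeZero (N / g) := ⟨hng.ne'⟩
  have hCc : Nat.card C ≤ N / g := by
    let Ψ : C → rootsOfUnity (N / g) K := fun y => ⟨Φ y, (mem_rootsOfUnity _ _).2 (hΦN y)⟩
    exact (Nat.card_le_card_of_injective Ψ fun a b e => hΦinj (congrArg Subtype.val e)).trans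
      (card_rootsOfUnity ..)
  have hfin : Finite C := by
    let Ψ : C → rootsOfUnity (N / g) K := fun y => ⟨Φ y, (mem_rootsOfUnity _ _).2 (hΦN y)⟩
    exact Finite.of_injective Ψ fun a b e => hΦinj (congrArg Subtype.val e)
  have htop : Subgroup.zpowers xC = ⊤ :=
    Subgroup.eq_top_of_le_card _ (by rw [Nat.card_zpowers, hxo]; exact hCc)
  have hcyc : IsCyclic C :=
    ⟨xC, fun y => by
      obtain ⟨j, hj⟩ := Subgroup.mem_zpowers_iff.1 (htop ▸ Subgroup.mem_top y)
      exact ⟨j, hj⟩⟩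
  refine ⟨C, hcyc, ?_, ?_⟩
  · rw [← Subgroup.card_top, ← htop, Nat.card_zpowers, hxo]
  · refine le_antisymm (fun y hy => ?_) fun y hy => ?_
    · rw [hCdef, Subgroup.mem_centralizer_singleton_iff]
      exact (Subgroup.mem_centralizer_iff.1 hy h
        (Subgroup.mem_centralizer_singleton_iff.2 rfl)).symm
    · refine Subgroup.mem_centralizer_iff.2 fun z hz => ?_
      exact congrArg Subtype.val (IsCyclic.isMulCommutative.is_comm.comm (⟨z, hz⟩ : C) ⟨y, hy⟩)

end CfsgLib.Known.ChevSinger
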