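import Cfsg.Agent.Lib.Known.ChevSinger.Adjoint.Frame
import Cfsg.Agent.Lib.Known.ChevSinger.Adjoint.Classes

/-!
# A regular frame from a primitive prime of order twelve

The Weyl element attached to a diagonalised element of prime order `r` with `q` of order twelve modulo `r`
is moved onto the certified representative.
-/

set_option autoImplicit false
set_option linter.unusedSectionVars false

namespace CfsgLib.Known.ChevSinger

open Cfsg.Lie CfsgLib.Chev CfsgLib.Chev.Table Polynomial Matrix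

universe u v

variable {D : ChevalleyDatum} {co : ℕ → ℕ → ℤ}

/-- An element of prime order is conjugate into the diagonal subgroup when the index of the latter is prime
to it. -/
theorem exists_conj_diag' {K : Type v} [Field K] [Finite K] (hF : Facts D co) {r : ℕ} [Fact r.Prime]
    {idx : ℕ} (hidx : Nat.card ↥(D.group K) = Nat.card ↥(D.diagonalSubgroup K) * idx)
    (hidr : ¬ r ∣ idx) {x : GL D.Idx K} (hx : x ∈ D.group K) (hxr : x ^ r = 1) :
    ∃ g ∈ D.group K, g * x * g⁻¹ ∈ D.diagonalSubgroup K := by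
  classical
  have hfinH : Finite ↥(D.diagonalSubgroup K) := inferInstance
  set H := (D.diagonalSubgroup K).subgroupOf (D.group K) with hHdef
  have hHc : Nat.card ↥H = Nat.card ↥(D.diagonalSubgroup K) :=
    Nat.card_congr (Subgroup.subgroupOfEquivOfLe hF.diagonal_le_group).toEquiv
  obtain ⟨S⟩ : Nonempty (Sylow r ↥H) := inferInstance
  set T : Subgroup ↥(D.group K) := (S : Subgroup ↥H).map H.subtype with hT'
  have hTp : IsPGroup r T := S.isPGroup'.map _
  have hindex : ¬ r ∣ T.index := by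
    have h1 : T.index = (S : Subgroup ↥H).index * H.index := Subgroup.index_map_subtype _
    have h2 : H.index = idx := by
      have := H.card_mul_index
      rw [hHc, hidx] at this
      exact Nat.eq_of_mul_eq_mul_left Nat.card_pos this
    rw [h1, h2, Nat.Prime.dvd_mul (Fact.out : r.Prime)]
    push Not
    exact ⟨S.not_dvd_index, hidr⟩
  obtain ⟨S', hS'⟩ : ∃ S' : Sylow r ↥(D.group K), (S' : Subgroup ↥(D.group K)) = T :=
    ⟨hTp.toSylow hindex, rfl⟩
  have hxp : IsPGroup r (Subgroup.zpowers (⟨x, hx⟩ : ↥(D.group K))) := by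
    intro y
    refine ⟨1, ?_⟩
    obtain ⟨y, k, rfl⟩ := y
    refine Subtype.ext (Subtype.ext ?_)
    simp only [pow_one, Subgroup.coe_pow, Subgroup.coe_zpow, Subgroup.coe_one]
    rw [← zpow_natCast, ← _root_.zpow_mul, mul_comm, _root_.zpow_mul, zpow_natCast, hxr, _root_.one_zpow]
  obtain ⟨S'', hS''⟩ := hxp.exists_le_sylow
  obtain ⟨g, hg⟩ := MulAction.exists_smul_eq (↥(D.group K)) S'' S'
  refine ⟨g, g.2, ?_⟩
  have h1 : g * (⟨x, hx⟩ : ↥(D.group K)) * g⁻¹ ∈ (S' : Subgroup ↥(D.group K)) := by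
    rw [← hg]
    exact Subgroup.smul_mem_pointwise_smul _ (MulAut.conj g) _ (hS'' (Subgroup.mem_zpowers _))
  rw [hS', hT', Subgroup.mem_map] at h1
  obtain ⟨y, -, hy⟩ := h1
  have := y.2
  rw [Subgroup.mem_subgroupOf] at this
  rwa [show ((y : ↥(D.group K)) : GL D.Idx K) = (g : GL D.Idx K) * x * (g : GL D.Idx K)⁻¹ from
    congrArg Subtype.val hy] at this

/-- The certified classes of a datum: representative `i₀` is the only one with an eigenvalue of order
twelve and has regular eigenfunctionals. -/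
structure TwelveCert (D : ChevalleyDatum) (T : Tab) (reps rfw cert kills : List (List ℕ))
    (fixes : List (List ℤ × ℕ × ℕ)) (i₀ : ℕ) : Prop where
  classes : chkClasses T D reps rfw cert = true
  kill : ∀ i < reps.length, i ≠ i₀ →
    chkKill T ((repWord D reps i).map Fin.val) (kills.getD i []) = true
  fix : ∀ i < reps.length, i ≠ 0 → chkFix T ((repWord D reps i).map Fin.val) (fixes.getD i ([], 0, 0)).1
    (fixes.getD i ([], 0, 0)).2.1 (fixes.getD i ([], 0, 0)).2.2 = true
  form : ∀ i, (reflM D i)ᵀ * (cartanMat D)ᵀ * reflM D i = (cartanMat D)ᵀ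
  symm : (cartanMat D)ᵀ = cartanMat D
  regular : ∀ {M : Type} [AddCommGroup M] (L : (Fin D.rank → ℤ) →+ M) (q r : ℕ) [Fact r.Prime],
    12 < r → orderOf (q : ZMod r) = 12 → (∀ v, (r : ℤ) • L v = 0) → (∀ v, L (wM D (repWord D reps i₀) *ᵥ v) = (q : ℤ) • L v) →
    (∃ v, L v ≠ 0) → ∀ s : Fin D.nroots, L (coV D T.co s.val) ≠ 0

variable {T : Tab} (hA : T.chkArrays D = true) (hCh : T.chkChain D = true) (hF : Facts D T.co)
include hA hCh hF

/-- A frame onto the representative, with an element whose centraliser is diagonal. -/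
theorem exists_frame {reps rfw cert kills : List (List ℕ)} {fixes : List (List ℤ × ℕ × ℕ)} {i₀ : ℕ}
    (S : TwelveCert D T reps rfw cert kills fixes i₀) {F : Type u} [Field F] {K : Type} [Field K]
    [Finite K] (hC : CommF.{0} D) (ι : F →+* K) (σ : K →+* K) {q r : ℕ} [Fact r.Prime]
    (hσ : ∀ x, σ x = x ^ q) (hσι : σ.comp ι = ι) (hr : 12 < r)
    (ho : orderOf (q : ZMod r) = 12)
    {idx : ℕ} (hidx : Nat.card ↥(D.group K) = Nat.card ↥(D.diagonalSubgroup K) * idx)
    (hidr : ¬ r ∣ idx) (h : ↥(D.group F)) (hh : orderOf h = r) :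
    ∃ P ∈ D.group K, P * (extG D σ P)⁻¹ ∈ D.monomialSubgroup K ∧
      PermAct (P * (extG D σ P)⁻¹) (sW D (repWord D reps i₀)) ∧
      ∀ x ∈ Subgroup.centralizer ({h} : Set ↥(D.group F)),
        ∃ c, P * extG D ι (x : GL D.Idx F) * P⁻¹ = hT D c := by
  classical
  obtain ⟨hnil, hrep⟩ := exists_rep hA hCh hF S.form S.symm S.classes
  have hr' : r.Prime := Fact.out
  have hσu : ∀ x : Kˣ, Units.map σ.toMonoidHom x = x ^ q := fun x =>
    Units.ext (by rw [Units.val_pow_eq_pow_val]; exact hσ x)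
  let i₁ : ↥(D.group F) →* GL D.Idx K := (extG D ι).comp (D.group F).subtype
  have hi₁ : Function.Injective i₁ := (extG_injective ι).comp Subtype.val_injective
  have hi₁G : ∀ x, i₁ x ∈ D.group K := fun x => extG_mem_group ι hF x.2
  have hi₁σ : ∀ x, extG D σ (i₁ x) = i₁ x := fun x => by
    show extG D σ (extG D ι _) = extG D ι _
    rw [extG_comp, hσι]
  -- what a diagonal position of `h` gives
  have step : ∀ P ∈ D.group K, ∀ c : ℕ → Kˣ, P * i₁ h * P⁻¹ = hT D c →
      ∃ l : List (Fin D.rank),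
        (∀ v, torHom D c (wM D l *ᵥ v) = (q : ℤ) • torHom D c v) ∧
        (∀ v, (r : ℤ) • torHom D c v = 0) ∧ (∃ v, torHom D c v ≠ 0) ∧
        ((∀ s < D.nroots, chiT D c s ≠ 1) →
          P * (extG D σ P)⁻¹ ∈ D.monomialSubgroup K ∧ PermAct (P * (extG D σ P)⁻¹) (sW D l)) := by
    intro P hP c hc
    set M := P * (extG D σ P)⁻¹ with hM
    have hMG : M ∈ D.group K :=
      Subgroup.mul_mem _ hP (Subgroup.inv_mem _ (extG_mem_group σ hF hP))
    have key : hT D c * M = M * hT D (fun i => Units.map σ.toMonoidHom (c i)) := by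
      rw [← extG_hT, ← hc, hM, map_mul, map_mul, map_inv, hi₁σ]
      group
    obtain ⟨l, hl, hlm⟩ := exists_intertwine hF hC hMG key
    have hcr : ∀ s < D.nroots, chiT D c s ^ r = 1 := fun s hs => by
      refine chiT_pow_eq_one hF ?_ hs
      have h1 := congrArg (MulAut.conj P) (show i₁ h ^ r = 1 by
        rw [← map_pow, ← hh, pow_orderOf_eq_one, map_one])
      rw [map_pow, map_one, MulAut.conj_apply, hc] at h1
      exact h1
    refine ⟨l, fun v => ?_, fun v => ?_, ?_, fun hreg => ?_⟩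
    · let L1 : (Fin D.rank → ℤ) →+ Additive Kˣ :=
        { toFun := fun v => torHom D c (wM D l *ᵥ v)
          map_zero' := by simp
          map_add' := fun v w => by rw [Matrix.mulVec_add, map_add] }
      have e : L1 = (q : ℤ) • torHom D c := hom_ext_roots hF fun s => by
        show torHom D c (wM D l *ᵥ coV D T.co s.val) = (q : ℤ) • torHom D c (coV D T.co s.val)
        rw [← coV_sW hF, torHom_coV hF c (sW D l s).isLt, torHom_coV hF c s.isLt, ← hl s, chiT_map,
          hσu, ofMul_pow, natCast_zsmul]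
      exact DFunLike.congr_fun e v
    · have e : (r : ℤ) • torHom D c = 0 := hom_ext_roots hF fun s => by
        show (r : ℤ) • torHom D c (coV D T.co s.val) = 0
        rw [torHom_coV hF c s.isLt, natCast_zsmul, ← ofMul_pow, hcr _ s.isLt, ofMul_one]
      exact DFunLike.congr_fun e v
    · by_contra hcon
      push Not at hcon
      have e : hT D c = hT D (fun _ => (1 : Kˣ)) := hT_ext fun s hs => by
        have h1 := hcon (coV D T.co s)
        rw [torHom_coV hF c hs, ofMul_eq_zero] at h1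
        rw [h1, chiT_one]
      rw [hF.hT_one, ← hc, conj_eq_one_iff, ← map_one i₁] at e
      rw [hi₁ e, orderOf_one] at hh
      exact hr'.ne_one hh.symm
    · exact hlm hreg fun s hs h1 => hreg _ (sW D l ⟨s, hs⟩).isLt ((hl ⟨s, hs⟩).symm.trans h1)
  -- the first position
  obtain ⟨P, hP, hPd⟩ := exists_conj_diag' hF hidx hidr (hi₁G h)
    (show i₁ h ^ r = 1 by rw [← map_pow, ← hh, pow_orderOf_eq_one, map_one])
  obtain ⟨c, hc⟩ := hF.mem_diagonal_iff.1 hPd
  obtain ⟨l, hl, hlr, ⟨v, hv⟩, -⟩ := step P hP c hc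
  obtain ⟨i, hi, x, hx⟩ := hrep l
  have hxe : wM D l = wM D x * wM D (repWord D reps i) * wM D x.reverse := by
    rw [← wM_append, ← wM_append]
    exact ext_of_roots hF fun s => by rw [← coV_sW hF, ← coV_sW hF, hx]
  have hxx : wM D x.reverse * wM D x = 1 := wM_reverse_mul hF x
  have hxx' : wM D x * wM D x.reverse = 1 := mul_eq_one_comm.1 hxx
  let L' : (Fin D.rank → ℤ) →+ Additive Kˣ :=
    (torHom D c).comp (Matrix.mulVecLin (wM D x)).toAddMonoidHom
  have hL'R : ∀ w, L' (wM D (repWord D reps i) *ᵥ w) = (q : ℤ) • L' w := fun w => by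
    show torHom D c (wM D x *ᵥ (wM D (repWord D reps i) *ᵥ w)) =
      (q : ℤ) • torHom D c (wM D x *ᵥ w)
    rw [← hl, hxe, Matrix.mulVec_mulVec, Matrix.mulVec_mulVec, mul_assoc, hxx, mul_one]
  have hne' : ∃ w, L' w ≠ 0 := ⟨wM D x.reverse *ᵥ v, by
    show torHom D c (wM D x *ᵥ (wM D x.reverse *ᵥ v)) ≠ 0
    rw [Matrix.mulVec_mulVec, hxx', Matrix.one_mulVec]
    exact hv⟩
  have hi0 : i = i₀ := by
    by_contra hne
    obtain ⟨w, hw⟩ := hne'
    exact hw (DFunLike.congr_fun
      (not_eigen_of_chk hA hCh hF (S.kill i hi hne) L' ho (fun w => hlr _) hL'R) w)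
  subst hi0
  -- move onto the representative
  set n := nW D K x.reverse with hn
  have hnmono : n ∈ D.monomialSubgroup K := hF.nW_mem _
  obtain ⟨c', hc'⟩ := hF.mem_diagonal_iff.1 (monomial_conj_diag hF hnmono hPd)
  set Q := n * P with hQ
  have hQG : Q ∈ D.group K := Subgroup.mul_mem _ (hF.monomial_le_group hnmono) hP
  have hQc : Q * i₁ h * Q⁻¹ = hT D c' := by
    rw [← hc', hQ]; group
  have hchi : ∀ s : Fin D.nroots,
      chiT D c' s.val = chiT D c (sW D x s).val := fun s => by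
    have hcomm : n * hT D c = hT D c' * n := by
      rw [← hc', ← hc, hn]; group
    have h1 := permAct_intertwine hF (hF.permAct_nW (F := K) x.reverse) hcomm (sW D x s)
    rw [h1]
    congr 2
    rw [hF.sW_reverse, ← Equiv.Perm.mul_apply, inv_mul_cancel, Equiv.Perm.one_apply]
  have hT'L : torHom D c' = L' := hom_ext_roots hF fun s => by
    show torHom D c' (coV D T.co s.val) = torHom D c (wM D x *ᵥ coV D T.co s.val)
    rw [← coV_sW hF, torHom_coV hF c' s.isLt, torHom_coV hF c (sW D x s).isLt, hchi]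
  have hreg : ∀ s < D.nroots, chiT D c' s ≠ 1 := fun s hs h1 =>
    S.regular L' q r hr ho (fun w => hlr _) hL'R hne' ⟨s, hs⟩ (by
      rw [← hT'L, torHom_coV hF c' hs, h1, ofMul_one])
  have hstab : ∀ w : List (Fin D.rank),
      (∀ v, L' (wM D w *ᵥ v) = L' v) → sW D w = 1 := by
    intro w hw
    obtain ⟨j, hj, y, hy⟩ := hrep w
    by_cases hj0 : j = 0
    · subst hj0
      rw [hy, hnil, List.append_nil, sW_append, hF.sW_reverse, mul_inv_cancel]
    exfalso
    have hye : wM D w = wM D y * wM D (repWord D reps j) * wM D y.reverse := by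
      rw [← wM_append, ← wM_append]
      exact ext_of_roots hF fun s => by rw [← coV_sW hF, ← coV_sW hF, hy]
    let L'' : (Fin D.rank → ℤ) →+ Additive Kˣ :=
      L'.comp (Matrix.mulVecLin (wM D y)).toAddMonoidHom
    have hL'' : ∀ v, L'' (wM D (repWord D reps j) *ᵥ v) = L'' v := fun v => by
      show L' (wM D y *ᵥ (wM D (repWord D reps j) *ᵥ v)) = L' (wM D y *ᵥ v)
      rw [← hw (wM D y *ᵥ v), hye, Matrix.mulVec_mulVec, Matrix.mulVec_mulVec, mul_assoc,
        wM_reverse_mul hF y, mul_one]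
    obtain ⟨s, hs⟩ := not_fix_of_chk hA hCh hF (S.fix j hj hj0) L'' hr (fun v => hlr _) hL''
    refine hreg _ (sW D y s).isLt ?_
    have h2 : L' (wM D y *ᵥ coV D T.co s.val) = 0 := hs
    rw [← coV_sW hF, ← hT'L, torHom_coV hF c' (sW D y s).isLt, ofMul_eq_zero] at h2
    exact h2
  obtain ⟨l', hl', -, -, hlm'⟩ := step Q hQG c' hQc
  obtain ⟨hMm, hMa⟩ := hlm' hreg
  have hl'R : sW D l' = sW D (repWord D reps i) := by
    have h1 : sW D (l' ++ (repWord D reps i).reverse) = 1 := by
      refine hstab _ fun v => ?_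
      set R := wM D (repWord D reps i)
      set v' := wM D (repWord D reps i).reverse *ᵥ v with hv'
      have hv : v = R *ᵥ v' := by
        rw [hv', Matrix.mulVec_mulVec, mul_eq_one_comm.1 (wM_reverse_mul hF _), Matrix.one_mulVec]
      rw [wM_append, ← Matrix.mulVec_mulVec, ← hv', ← hT'L, hl' v', hT'L, ← hL'R v', ← hv]
    rw [sW_append, hF.sW_reverse, mul_inv_eq_one] at h1
    exact h1
  refine ⟨Q, hQG, hMm, hl'R ▸ hMa, fun y hy => ?_⟩
  set X := Q * i₁ y * Q⁻¹ with hX
  have hXG : X ∈ D.group K :=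
    Subgroup.mul_mem _ (Subgroup.mul_mem _ hQG (hi₁G y)) (Subgroup.inv_mem _ hQG)
  have hcomm : hT D c' * X = X * hT D c' := by
    have h1 : i₁ h * i₁ y = i₁ y * i₁ h := by
      rw [← map_mul, ← map_mul, (Subgroup.mem_centralizer_singleton_iff.1 hy).symm]
    rw [← hQc, hX]
    calc Q * i₁ h * Q⁻¹ * (Q * i₁ y * Q⁻¹) = Q * (i₁ h * i₁ y) * Q⁻¹ := by group
      _ = Q * i₁ y * Q⁻¹ * (Q * i₁ h * Q⁻¹) := by rw [h1]; group
  obtain ⟨l₂, hl₂, hlm₂⟩ := exists_intertwine hF hC hXG hcomm
  obtain ⟨hXm, hXa⟩ := hlm₂ hreg hreg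
  refine hF.mem_diagonal_iff.1 (hF.mem_diagonal_of_permAct hXm ?_)
  rw [← hstab l₂ fun v => ?_]
  · exact hXa
  · let L1 : (Fin D.rank → ℤ) →+ Additive Kˣ := L'.comp (Matrix.mulVecLin (wM D l₂)).toAddMonoidHom
    have e : L1 = L' := hom_ext_roots hF fun s => by
      show L' (wM D l₂ *ᵥ coV D T.co s.val) = L' (coV D T.co s.val)
      rw [← coV_sW hF, ← hT'L, torHom_coV hF c' (sW D l₂ s).isLt, torHom_coV hF c' s.isLt, ← hl₂ s]
    exact DFunLike.congr_fun e v

end CfsgLib.Known.ChevSinger
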